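import Mathlib

/-!
# Čech complexes of coefficient systems on finite sets of indices

An `RSys` is a family of modules indexed by finite sets of indices with restriction maps. Its Čech
cochains are functions on all tuples of indices. The main result here is exactness above the number
of indices.
-/

set_option autoImplicit false

universe u v

noncomputable section

namespace Groth.Agent.CechSys

variable {ι : Type} [DecidableEq ι]

/-- The set of entries of a tuple. -/
def img {n : ℕ} (t : Fin n → ι) : Finset ι := Finset.univ.image t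

lemma mem_img {n : ℕ} {t : Fin n → ι} {a : ι} : a ∈ img t ↔ ∃ k, t k = a := by simp [img]

lemma img_comp_subset {n m : ℕ} (t : Fin n → ι) (σ : Fin m → Fin n) : img (t ∘ σ) ⊆ img t := by
  intro a ha
  obtain ⟨k, rfl⟩ := mem_img.1 ha
  exact mem_img.2 ⟨σ k, rfl⟩

lemma img_nonempty {n : ℕ} (t : Fin (n + 1) → ι) : (img t).Nonempty :=
  ⟨t 0, mem_img.2 ⟨0, rfl⟩⟩

lemma img_cons {n : ℕ} (a : ι) (s : Fin n → ι) : img (Fin.cons a s : Fin (n + 1) → ι) = insert a (img s) := by
  ext b
  simp only [mem_img, Finset.mem_insert]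
  constructor
  · rintro ⟨k, rfl⟩
    cases k using Fin.cases with
    | zero => simp
    | succ k => exact Or.inr ⟨k, by simp⟩
  · rintro (rfl | ⟨k, rfl⟩)
    · exact ⟨0, by simp⟩
    · exact ⟨k.succ, by simp⟩

lemma cons_comp_succAbove_succ {n : ℕ} (a : ι) (s : Fin (n + 1) → ι) (j : Fin (n + 1)) :
    (Fin.cons a s : Fin (n + 2) → ι) ∘ j.succ.succAbove = Fin.cons a (s ∘ j.succAbove) := by
  funext k
  cases k using Fin.cases with
  | zero => simp
  | succ k => simp

lemma cons_comp_succAbove_zero {n : ℕ} (a : ι) (s : Fin (n + 1) → ι) :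
    (Fin.cons a s : Fin (n + 2) → ι) ∘ (0 : Fin (n + 2)).succAbove = s := by
  funext k
  simp

variable (ι) (B : Type u) [CommRing B]

/-- Modules indexed by finite sets with restriction maps. -/
structure RSys where
  /-- The modules. -/
  M : Finset ι → Type v
  [grp : ∀ S, AddCommGroup (M S)]
  [mod : ∀ S, Module B (M S)]
  /-- Restriction. -/
  res : ∀ {S T : Finset ι}, S ⊆ T → M S →ₗ[B] M T
  res_self : ∀ {S : Finset ι} (h : S ⊆ S) (m : M S), res h m = m
  res_res : ∀ {S T U : Finset ι} (h : S ⊆ T) (h' : T ⊆ U) (m : M S),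
    res h' (res h m) = res (h.trans h') m

attribute [instance] RSys.grp RSys.mod

variable {ι B}

namespace RSys

variable (N : RSys.{u, v} ι B)

/-- Čech cochains. -/
abbrev C (p : ℕ) : Type v := ∀ t : Fin (p + 1) → ι, N.M (img t)

/-- Values at equal tuples. -/
lemma res_congr {p : ℕ} (c : N.C p) {u u' : Fin (p + 1) → ι} (e : u = u') {T : Finset ι}
    (h : img u ⊆ T) (h' : img u' ⊆ T) : N.res h (c u) = N.res h' (c u') := by
  subst e; rfl

/-- The differential. -/
def d (p : ℕ) : N.C p →ₗ[B] N.C (p + 1) where
  toFun c t := ∑ j : Fin (p + 2), (-1 : ℤ) ^ (j : ℕ) •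
    N.res (img_comp_subset t j.succAbove) (c (t ∘ j.succAbove))
  map_add' a b := by
    funext t
    simp [Finset.sum_add_distrib]
  map_smul' r a := by
    funext t
    simp only [Pi.smul_apply, map_smul, RingHom.id_apply, Finset.smul_sum]
    exact Finset.sum_congr rfl fun j _ => (smul_comm r _ _).symm

lemma d_apply {p : ℕ} (c : N.C p) (t : Fin (p + 2) → ι) :
    N.d p c t = ∑ j : Fin (p + 2), (-1 : ℤ) ^ (j : ℕ) •
      N.res (img_comp_subset t j.succAbove) (c (t ∘ j.succAbove)) := rfl

/-- The system with a fixed index added. -/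
abbrev ins (a : ι) : RSys.{u, v} ι B where
  M S := N.M (insert a S)
  res h := N.res (Finset.insert_subset_insert a h)
  res_self _ m := N.res_self _ m
  res_res _ _ m := N.res_res _ _ m

/-- The cochain obtained by putting `a` in front. -/
def front (a : ι) {p : ℕ} (c : N.C (p + 1)) : (N.ins a).C p :=
  fun s => N.res (img_cons a s).subset (c (Fin.cons a s))

lemma res_front (a : ι) {p : ℕ} (c : N.C (p + 1)) (s : Fin (p + 1) → ι) {T : Finset ι}
    (h : insert a (img s) ⊆ T) (h' : img (Fin.cons a s : Fin (p + 2) → ι) ⊆ T) :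
    N.res h (N.front a c s) = N.res h' (c (Fin.cons a s)) :=
  N.res_res _ _ _

/-- The differential at a tuple starting with `a`. -/
lemma front_d (a : ι) {p : ℕ} (c : N.C (p + 1)) (s : Fin (p + 2) → ι) :
    N.front a (N.d (p + 1) c) s =
      N.res (Finset.subset_insert a (img s)) (c s) - (N.ins a).d p (N.front a c) s := by
  rw [front, d_apply, Fin.sum_univ_succ, map_add, map_sum, d_apply, sub_eq_add_neg,
    ← Finset.sum_neg_distrib]
  refine congrArg₂ (· + ·) ?_ (Finset.sum_congr rfl fun j _ => ?_)
  · rw [Fin.val_zero, pow_zero, one_smul, N.res_res]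
    exact N.res_congr c (cons_comp_succAbove_zero a s) _ _
  · rw [map_zsmul, N.res_res, Fin.val_succ, pow_succ, mul_neg, mul_one, neg_smul]
    refine congrArg (fun z => -((-1 : ℤ) ^ (j : ℕ) • z)) ?_
    exact (N.res_congr c (cons_comp_succAbove_succ a s j) _
      ((img_cons a _).subset.trans (Finset.insert_subset_insert a (img_comp_subset s _)))).trans
      (N.res_front a c _ _ _).symm

lemma eq_of_front {p : ℕ} {c c' : N.C (p + 1)} (t : Fin (p + 2) → ι)
    (h : N.front (t 0) c (Fin.tail t) = N.front (t 0) c' (Fin.tail t)) : c t = c' t := by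
  have e : (Fin.cons (t 0) (Fin.tail t) : Fin (p + 2) → ι) = t := Fin.cons_self_tail t
  have hs : insert (t 0) (img (Fin.tail t)) ⊆ img t := by
    rw [← img_cons, e]
  have h' := congrArg (N.res hs) h
  rw [N.res_front _ c _ _ ((congrArg img e).subset), N.res_front _ c' _ _ ((congrArg img e).subset),
    N.res_congr c e _ (subset_refl _), N.res_congr c' e _ (subset_refl _), N.res_self, N.res_self] at h'
  exact h'

lemma d_d (p : ℕ) (c : N.C p) : N.d (p + 1) (N.d p c) = 0 := by
  induction p generalizing N with
  | zero =>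
    funext t
    rw [d_apply, Fin.sum_univ_three, d_apply, d_apply, d_apply]
    simp only [Nat.reduceAdd, Fin.sum_univ_two, map_add, map_zsmul, N.res_res, Pi.zero_apply]
    rw [N.res_congr c (u := (t ∘ Fin.succAbove 0) ∘ Fin.succAbove (0 : Fin 2))
        (u' := fun _ => t 2) (by funext k; fin_cases k; rfl) _ (fun x hx => mem_img.2 (by
          obtain ⟨_, rfl⟩ := mem_img.1 hx; exact ⟨2, rfl⟩)),
      N.res_congr c (u := (t ∘ Fin.succAbove 0) ∘ Fin.succAbove (1 : Fin 2))
        (u' := fun _ => t 1) (by funext k; fin_cases k; rfl) _ (fun x hx => mem_img.2 (by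
          obtain ⟨_, rfl⟩ := mem_img.1 hx; exact ⟨1, rfl⟩)),
      N.res_congr c (u := (t ∘ Fin.succAbove 1) ∘ Fin.succAbove (0 : Fin 2))
        (u' := fun _ => t 2) (by funext k; fin_cases k; rfl) _ (fun x hx => mem_img.2 (by
          obtain ⟨_, rfl⟩ := mem_img.1 hx; exact ⟨2, rfl⟩)),
      N.res_congr c (u := (t ∘ Fin.succAbove 1) ∘ Fin.succAbove (1 : Fin 2))
        (u' := fun _ => t 0) (by funext k; fin_cases k; rfl) _ (fun x hx => mem_img.2 (by
          obtain ⟨_, rfl⟩ := mem_img.1 hx; exact ⟨0, rfl⟩)),
      N.res_congr c (u := (t ∘ Fin.succAbove 2) ∘ Fin.succAbove (0 : Fin 2))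
        (u' := fun _ => t 1) (by funext k; fin_cases k; rfl) _ (fun x hx => mem_img.2 (by
          obtain ⟨_, rfl⟩ := mem_img.1 hx; exact ⟨1, rfl⟩)),
      N.res_congr c (u := (t ∘ Fin.succAbove 2) ∘ Fin.succAbove (1 : Fin 2))
        (u' := fun _ => t 0) (by funext k; fin_cases k; rfl) _ (fun x hx => mem_img.2 (by
          obtain ⟨_, rfl⟩ := mem_img.1 hx; exact ⟨0, rfl⟩))]
    simp
    abel
  | succ p ih =>
    funext t
    refine N.eq_of_front (c := N.d (p + 2) (N.d (p + 1) c)) (c' := 0) t ?_
    rw [front_d]
    have h1 : N.front (t 0) (N.d (p + 1) c) =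
        (fun s => N.res (Finset.subset_insert (t 0) (img s)) (c s)) - (N.ins (t 0)).d p (N.front (t 0) c) :=
      funext fun s => N.front_d _ c s
    have h2 : N.front (t 0) (0 : N.C (p + 3)) (Fin.tail t) = 0 := map_zero _
    rw [h2, h1, map_sub, ih (N.ins (t 0)) (N.front (t 0) c), sub_zero, sub_eq_zero, d_apply, map_sum,
      d_apply]
    refine Finset.sum_congr rfl fun j _ => ?_
    rw [map_zsmul, N.res_res]
    exact congrArg (fun z => (-1 : ℤ) ^ (j : ℕ) • z) (N.res_res _ _ _).symm

/-- `c` is a cocycle on the tuples with entries in `T`. -/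
def CocycleOn (T : Finset ι) {p : ℕ} (c : N.C p) : Prop :=
  ∀ t : Fin (p + 2) → ι, img t ⊆ T → N.d p c t = 0

/-- Exactness in degree `p + 1` when there are at most `p + 1` indices. -/
theorem exists_preimage (T : Finset ι) (p : ℕ) (hT : T.card ≤ p + 1) (c : N.C (p + 1))
    (hc : N.CocycleOn T c) :
    ∃ b : N.C p, ∀ t : Fin (p + 2) → ι, img t ⊆ T → N.d p b t = c t := by
  induction T using Finset.induction generalizing N p with
  | empty =>
    refine ⟨0, fun t ht => ?_⟩
    obtain ⟨a, ha⟩ := img_nonempty t
    exact absurd (ht ha) (by simp)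
  | @insert a T haT ih =>
    rw [Finset.card_insert_of_notMem haT] at hT
    have free : ∀ {m : ℕ} (t : Fin m → ι), img t ⊆ insert a T → a ∉ img t → img t ⊆ T :=
      fun t ht hta x hx => (Finset.mem_insert.1 (ht hx)).resolve_left (fun e => hta (e ▸ hx))
    -- first kill the values on tuples avoiding `a`
    obtain ⟨b₀, hb₀⟩ := ih N p (by omega) c fun t ht => hc t (ht.trans (Finset.subset_insert _ _))
    let c₁ : N.C (p + 1) := c - N.d p b₀
    have hc₁ : N.CocycleOn (insert a T) c₁ := fun t ht => by
      simp only [c₁, map_sub, d_d, sub_zero]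
      exact hc t ht
    have hc₁T : ∀ t : Fin (p + 2) → ι, img t ⊆ T → c₁ t = 0 := fun t ht => by
      simp [c₁, hb₀ t ht]
    -- then kill the values on `a` followed by a tuple avoiding `a`
    have key : ∀ s : Fin (p + 2) → ι, img s ⊆ T → (N.ins a).d p (N.front a c₁) s = 0 := by
      intro s hs
      have hsub : img (Fin.cons a s : Fin (p + 3) → ι) ⊆ insert a T :=
        (img_cons a s).subset.trans (Finset.insert_subset_insert a hs)
      have h := N.front_d a c₁ s
      rw [hc₁T s hs, map_zero, zero_sub, front, hc₁ _ hsub, map_zero] at h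
      exact neg_eq_zero.1 h.symm
    obtain ⟨f, hf⟩ : ∃ b₁ : N.C p, ∀ t : Fin (p + 2) → ι, img t ⊆ insert a T →
        (a ∉ img t → N.d p b₁ t = 0) ∧ (t 0 = a → a ∉ img (Fin.tail t) → N.d p b₁ t = c₁ t) := by
      cases p with
      | zero =>
        rcases T.eq_empty_or_nonempty with rfl | hne
        · refine ⟨0, fun t ht => ⟨fun h => by simp, fun h0 h => ?_⟩⟩
          exact absurd (free (Fin.tail t) ((img_comp_subset t Fin.succ).trans ht) h (mem_img.2 ⟨0, rfl⟩))
            (by simp)
        · have := hne.card_pos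
          omega
      | succ q =>
        obtain ⟨f, hf⟩ := ih (N.ins a) q (by omega) (N.front a c₁) key
        classical
        let b₁ : N.C (q + 1) := fun t =>
          if h : t 0 = a ∧ a ∉ img (Fin.tail t) then
            -N.res (show insert a (img (Fin.tail t)) ⊆ img t by
              rw [← img_cons, ← h.1, Fin.cons_self_tail]) (f (Fin.tail t))
          else 0
        refine ⟨b₁, fun t ht => ⟨fun hta => ?_, fun h0 hta => ?_⟩⟩
        · rw [d_apply]
          refine Finset.sum_eq_zero fun j _ => ?_
          have : b₁ (t ∘ j.succAbove) = 0 := dif_neg fun h => hta (mem_img.2 ⟨_, h.1⟩)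
          rw [this, map_zero, smul_zero]
        · refine N.eq_of_front t ?_
          obtain rfl : a = t 0 := h0.symm
          rw [front_d]
          have hz : b₁ (Fin.tail t) = 0 := dif_neg fun h => hta (mem_img.2 ⟨0, h.1⟩)
          rw [hz, map_zero, zero_sub]
          have hfr : ∀ s : Fin (q + 1) → ι, t 0 ∉ img s → N.front (t 0) b₁ s = -f s := by
            intro s hs
            have hd : b₁ (Fin.cons (t 0) s) = -N.res (by
                rw [Fin.tail_cons, img_cons]) (f (Fin.tail (Fin.cons (t 0) s : Fin (q + 2) → ι))) :=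
              dif_pos ⟨by simp, by simpa using hs⟩
            rw [front, hd, map_neg, N.res_res, neg_inj]
            exact ((N.ins (t 0)).res_congr f (Fin.tail_cons (α := fun _ => ι) (t 0) s)
              (by rw [Fin.tail_cons]) (subset_refl _)).trans ((N.ins (t 0)).res_self _ _)
          rw [← hf (Fin.tail t) (free _ ((img_comp_subset t Fin.succ).trans ht) hta), d_apply, d_apply,
            ← Finset.sum_neg_distrib]
          refine Finset.sum_congr rfl fun j _ => ?_
          rw [hfr _ fun h => hta (img_comp_subset _ _ h), map_neg, smul_neg, neg_neg]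
    let c₂ : N.C (p + 1) := c₁ - N.d p f
    have hc₂ : N.CocycleOn (insert a T) c₂ := fun t ht => by
      simp only [c₂, map_sub, d_d, sub_zero]
      exact hc₁ t ht
    have hfree : ∀ t : Fin (p + 2) → ι, img t ⊆ insert a T → a ∉ img t → c₂ t = 0 := fun t ht hta => by
      simp [c₂, hc₁T t (free t ht hta), (hf t ht).1 hta]
    have hhead : ∀ t : Fin (p + 2) → ι, img t ⊆ insert a T → t 0 = a → a ∉ img (Fin.tail t) →
        c₂ t = 0 := fun t ht h0 hta => by
      simp [c₂, (hf t ht).2 h0 hta]
    -- the remaining part is contracted by putting `a` in front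
    classical
    let e : N.C p := fun t => if h : a ∈ img t then
      N.res (by rw [img_cons, Finset.insert_eq_of_mem h]) (c₂ (Fin.cons a t)) else 0
    refine ⟨b₀ + f + e, fun t ht => ?_⟩
    suffices he : N.d p e t = c₂ t by
      rw [map_add, map_add, Pi.add_apply, Pi.add_apply, he]
      simp [c₂, c₁]
    by_cases hta : a ∈ img t
    · have hsub : img (Fin.cons a t : Fin (p + 3) → ι) ⊆ img t := by
        rw [img_cons, Finset.insert_eq_of_mem hta]
      have h := N.front_d a c₂ t
      rw [front, hc₂ _ (hsub.trans ht), map_zero, eq_comm, sub_eq_zero] at h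
      have h' := congrArg (N.res (show insert a (img t) ⊆ img t by
        rw [Finset.insert_eq_of_mem hta])) h
      rw [N.res_res, N.res_self, d_apply, map_sum] at h'
      rw [h', d_apply]
      refine Finset.sum_congr rfl fun j _ => ?_
      rw [map_zsmul, N.res_res, N.res_front a c₂ _ _ (by
        rw [img_cons]; exact Finset.insert_subset hta (img_comp_subset t _))]
      congr 1
      by_cases hj : a ∈ img (t ∘ j.succAbove)
      · simp only [e, dif_pos hj, N.res_res]
      · simp only [e, dif_neg hj, map_zero]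
        have hsub' : img (Fin.cons a (t ∘ j.succAbove) : Fin (p + 2) → ι) ⊆ insert a T :=
          (img_cons a _).subset.trans
            (Finset.insert_subset (Finset.mem_insert_self a T) ((img_comp_subset t _).trans ht))
        rw [hhead _ hsub' (by simp) (by simpa using hj), map_zero]
    · rw [hfree t ht hta, d_apply]
      refine Finset.sum_eq_zero fun j _ => ?_
      simp only [e, dif_neg (fun h => hta (img_comp_subset t j.succAbove h)), map_zero, smul_zero]

end RSys

end Groth.Agent.CechSys
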