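import Groth.Agent.CechSys.RSys

/-!
# Finiteness of Čech cohomology in short exact sequences of systems
-/

set_option autoImplicit false

universe u v v' v''

noncomputable section

namespace Groth.Agent.CechSys

variable {ι : Type} [DecidableEq ι] {B : Type u} [CommRing B]

namespace RSys

/-- Morphisms of systems. -/
structure Hom (N : RSys.{u, v} ι B) (P : RSys.{u, v'} ι B) where
  /-- The components. -/
  app : ∀ S, N.M S →ₗ[B] P.M S
  natural : ∀ {S T : Finset ι}, S.Nonempty → ∀ (h : S ⊆ T) (m : N.M S),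
    P.res h (app S m) = app T (N.res h m)

/-- The map of cochains. -/
def Hom.cmap {N : RSys.{u, v} ι B} {P : RSys.{u, v'} ι B} (f : Hom N P) (p : ℕ) : N.C p →ₗ[B] P.C p :=
  LinearMap.pi fun t => (f.app (img t)).comp (LinearMap.proj t)

lemma Hom.cmap_apply {N : RSys.{u, v} ι B} {P : RSys.{u, v'} ι B} (f : Hom N P) {p : ℕ} (c : N.C p)
    (t : Fin (p + 1) → ι) : f.cmap p c t = f.app (img t) (c t) := rfl

lemma Hom.d_cmap {N : RSys.{u, v} ι B} {P : RSys.{u, v'} ι B} (f : Hom N P) (p : ℕ) (c : N.C p) :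
    P.d p (f.cmap p c) = f.cmap (p + 1) (N.d p c) := by
  funext t
  simp only [f.cmap_apply, d_apply, map_sum, map_zsmul, f.natural (img_nonempty _)]

variable (N : RSys.{u, v} ι B)

/-- Cocycles. -/
def Z (p : ℕ) : Submodule B (N.C p) := LinearMap.ker (N.d p)

lemma mem_Z {p : ℕ} {c : N.C p} : c ∈ N.Z p ↔ N.d p c = 0 := LinearMap.mem_ker

/-- Coboundaries. -/
def Bd : ∀ p, Submodule B (N.C p)
  | 0 => ⊥
  | p + 1 => LinearMap.range (N.d p)

lemma Bd_le_Z : ∀ p, N.Bd p ≤ N.Z p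
  | 0 => bot_le
  | p + 1 => by
    rintro _ ⟨b, rfl⟩
    exact N.mem_Z.2 (N.d_d p b)

/-- The cohomology in degree `p` is finitely generated. -/
def FinH (p : ℕ) : Prop :=
  ∃ G : Finset (N.C p), (G : Set (N.C p)) ⊆ N.Z p ∧
    N.Z p ≤ Submodule.span B (G : Set (N.C p)) ⊔ N.Bd p

/-- The cohomology in degree `p` vanishes. -/
def VanH (p : ℕ) : Prop := N.Z p ≤ N.Bd p

lemma VanH.finH {p : ℕ} (h : N.VanH p) : N.FinH p :=
  ⟨∅, by simp, h.trans le_sup_right⟩

/-- Čech cohomology vanishes above the number of indices. -/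
theorem vanH_of_card_le [Fintype ι] (p : ℕ) (h : Fintype.card ι ≤ p + 1) : N.VanH (p + 1) := by
  intro c hc
  obtain ⟨b, hb⟩ := N.exists_preimage Finset.univ p (by simpa using h) c
    (fun t _ => congrFun (N.mem_Z.1 hc) t)
  exact ⟨b, funext fun t => hb t (Finset.subset_univ _)⟩

/-- Short exact sequences on nonempty sets of indices. -/
structure SES (K : RSys.{u, v'} ι B) (F : RSys.{u, v''} ι B) where
  /-- The inclusion. -/
  i : Hom K F
  /-- The projection. -/
  π : Hom F N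
  inj : ∀ S, S.Nonempty → Function.Injective (i.app S)
  surj : ∀ S, S.Nonempty → Function.Surjective (π.app S)
  comp : ∀ S (k : K.M S), π.app S (i.app S k) = 0
  exact : ∀ S, S.Nonempty → ∀ m, π.app S m = 0 → ∃ k, i.app S k = m

variable {N} {K : RSys.{u, v'} ι B} {F : RSys.{u, v''} ι B} (E : N.SES K F)

namespace SES

include E

lemma cmap_i_injective (p : ℕ) : Function.Injective (E.i.cmap p) := fun _ _ h =>
  funext fun t => E.inj _ (img_nonempty t) (congrFun h t)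

lemma cmap_π_surjective (p : ℕ) : Function.Surjective (E.π.cmap p) := fun c => by
  choose b hb using fun t => E.surj _ (img_nonempty t) (c t)
  exact ⟨b, funext hb⟩

lemma cmap_exact (p : ℕ) (b : F.C p) (h : E.π.cmap p b = 0) : ∃ k, E.i.cmap p k = b := by
  choose k hk using fun t => E.exact _ (img_nonempty t) (b t) (congrFun h t)
  exact ⟨k, funext hk⟩

lemma cmap_comp (p : ℕ) (k : K.C p) : E.π.cmap p (E.i.cmap p k) = 0 :=
  funext fun _ => E.comp _ _

lemma map_Bd_le (p : ℕ) : (F.Bd p).map (E.π.cmap p) ≤ N.Bd p := by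
  cases p with
  | zero => simp [Bd]
  | succ p =>
    rintro _ ⟨_, ⟨b, rfl⟩, rfl⟩
    exact ⟨E.π.cmap p b, E.π.d_cmap p b⟩

/-- Lifts of cocycles. -/
lemma exists_lift (p : ℕ) {z : N.C p} (hz : z ∈ N.Z p) :
    ∃ b k, E.π.cmap p b = z ∧ E.i.cmap (p + 1) k = F.d p b ∧ k ∈ K.Z (p + 1) := by
  obtain ⟨b, rfl⟩ := E.cmap_π_surjective p z
  obtain ⟨k, hk⟩ := E.cmap_exact (p + 1) (F.d p b) (by rw [← E.π.d_cmap, N.mem_Z.1 hz])
  refine ⟨b, k, rfl, hk, K.mem_Z.2 (E.cmap_i_injective (p + 2) ?_)⟩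
  rw [← E.i.d_cmap, hk, d_d, map_zero]

theorem vanH {p : ℕ} (hF : F.VanH p) (hK : K.VanH (p + 1)) : N.VanH p := by
  intro z hz
  obtain ⟨b, k, rfl, hk, hkZ⟩ := E.exists_lift p hz
  obtain ⟨k', rfl⟩ := hK hkZ
  have hb : b - E.i.cmap p k' ∈ F.Bd p := hF (F.mem_Z.2 (by
    rw [map_sub, E.i.d_cmap, hk, sub_self]))
  have h := E.map_Bd_le p ⟨_, hb, rfl⟩
  rwa [map_sub, E.cmap_comp, sub_zero] at h

theorem finH [IsNoetherianRing B] {p : ℕ} (hF : F.FinH p) (hK : K.FinH (p + 1)) : N.FinH p := by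
  classical
  obtain ⟨GF, hGF, hFle⟩ := hF
  obtain ⟨GK, hGK, hKle⟩ := hK
  -- the cocycles of `K` coming from cocycles of `N`
  let L : Submodule B (F.C p × K.C (p + 1)) :=
    LinearMap.ker ((E.i.cmap (p + 1)).comp (LinearMap.snd B _ _) - (F.d p).comp (LinearMap.fst B _ _))
  have hL : ∀ x : F.C p × K.C (p + 1), x ∈ L ↔ E.i.cmap (p + 1) x.2 = F.d p x.1 := fun x => by
    simp [L, LinearMap.mem_ker, sub_eq_zero]
  have hLN : ∀ x ∈ L, E.π.cmap p x.1 ∈ N.Z p := fun x hx => N.mem_Z.2 (by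
    rw [E.π.d_cmap, ← (hL x).1 hx, E.cmap_comp])
  have hLK : ∀ x ∈ L, x.2 ∈ K.Z (p + 1) := fun x hx => K.mem_Z.2 (E.cmap_i_injective (p + 2) (by
    rw [← E.i.d_cmap, (hL x).1 hx, d_d, map_zero]))
  let A := Submodule.span B (GK : Set (K.C (p + 1)))
  haveI : IsNoetherian B A := isNoetherian_of_fg_of_noetherian A ⟨GK, rfl⟩
  let P := L.map (LinearMap.snd B _ _) ⊔ K.Bd (p + 1)
  have hfg : (A ⊓ P).FG := by
    have := (IsNoetherian.noetherian (P.comap A.subtype)).map A.subtype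
    rwa [Submodule.map_comap_subtype] at this
  obtain ⟨T, hT⟩ := hfg
  have hdec : ∀ s ∈ T, ∃ x ∈ L, s - x.2 ∈ K.Bd (p + 1) := by
    intro s hs
    have hsP : s ∈ P := ((hT ▸ Submodule.subset_span hs : s ∈ A ⊓ P)).2
    obtain ⟨_, ⟨x, hx, rfl⟩, k, hk, rfl⟩ := Submodule.mem_sup.1 hsP
    exact ⟨x, hx, by simpa using hk⟩
  choose! g hg hgs using hdec
  refine ⟨(T.image fun s => E.π.cmap p (g s).1) ∪ GF.image (E.π.cmap p), ?_, fun z hz => ?_⟩
  · intro y hy
    simp only [Finset.coe_union, Finset.coe_image, Set.mem_union, Set.mem_image,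
      Finset.mem_coe] at hy
    rcases hy with ⟨s, hs, rfl⟩ | ⟨y, hy, rfl⟩
    · exact hLN _ (hg s hs)
    · exact N.mem_Z.2 (by rw [E.π.d_cmap, F.mem_Z.1 (hGF hy), map_zero])
  · obtain ⟨b, k, rfl, hk, hkZ⟩ := E.exists_lift p hz
    obtain ⟨a, ha, β, hβ, hab⟩ := Submodule.mem_sup.1 (hKle hkZ)
    have haP : a ∈ P := by
      have : a = k - β := by rw [← hab]; abel
      rw [this]
      exact sub_mem (Submodule.mem_sup_left ⟨(b, k), (hL _).2 hk, rfl⟩) (Submodule.mem_sup_right hβ)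
    have haT : a ∈ Submodule.span B (T : Set (K.C (p + 1))) := hT ▸ ⟨ha, haP⟩
    obtain ⟨r, rfl⟩ := Submodule.mem_span_finset'.1 haT
    let x := (b, k) - ∑ s : T, r s • g s.1
    have hx : x ∈ L := sub_mem ((hL _).2 hk) (sum_mem fun s _ => L.smul_mem _ (hg _ s.2))
    have hxB : x.2 ∈ K.Bd (p + 1) := by
      have e : x.2 = β + ∑ s : T, r s • (s.1 - (g s.1).2) := by
        simp [x, ← hab, Prod.snd_sum, Finset.sum_sub_distrib, smul_sub]
        abel
      rw [e]
      exact add_mem hβ (sum_mem fun s _ => Submodule.smul_mem _ _ (hgs _ s.2))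
    obtain ⟨k', hk'⟩ := hxB
    have hFz : x.1 - E.i.cmap p k' ∈ F.Z p := F.mem_Z.2 (by
      rw [map_sub, E.i.d_cmap, hk', (hL x).1 hx, sub_self])
    have h := Submodule.mem_map_of_mem (f := E.π.cmap p) (hFle hFz)
    rw [map_sub, E.cmap_comp, sub_zero, Submodule.map_sup, Submodule.map_span] at h
    have hz' : E.π.cmap p b = E.π.cmap p x.1 + ∑ s : T, r s • E.π.cmap p (g s.1).1 := by
      simp [x, Prod.fst_sum]
    rw [hz']
    refine add_mem (sup_le_sup ?_ (E.map_Bd_le p) h) (Submodule.mem_sup_left (sum_mem fun s _ =>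
      Submodule.smul_mem _ _ (Submodule.subset_span (by
        simp only [Finset.coe_union, Finset.coe_image, Set.mem_union, Set.mem_image, Finset.mem_coe]
        exact Or.inl ⟨s.1, s.2, rfl⟩))))
    exact Submodule.span_mono (by simp [Finset.coe_union, Finset.coe_image])

end SES

end RSys

end Groth.Agent.CechSys
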