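import Groth.Agent.CechSys.Graded

/-!
# Free graded systems: Laurent polynomials

The free system on generators of degrees `D` has as modules the spans of the Laurent monomials whose
exponents are nonnegative away from the set of indices. Its cohomology is computed by a contraction.
-/

set_option autoImplicit false

universe u

noncomputable section

namespace Groth.Agent.CechSys

open Classical

variable {ι : Type} [DecidableEq ι] [Fintype ι] (B : Type u) [CommRing B] {r : ℕ} (D : Fin r → ℤ)

/-- Laurent monomials on `r` generators. -/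
abbrev Mon (ι : Type) (r : ℕ) : Type := Fin r × (ι → ℤ)

/-- The degree of a monomial. -/
def mdeg (ke : Mon ι r) : ℤ := D ke.1 + ∑ a, ke.2 a

/-- Shift of a monomial by `1` in the variable `i`. -/
def shift (i : ι) (ke : Mon ι r) : Mon ι r := (ke.1, ke.2 + Pi.single i 1)

omit [Fintype ι] in
lemma shift_injective (i : ι) : Function.Injective (shift (r := r) i) := fun x y h => by
  simp only [shift, Prod.mk.injEq, add_left_inj] at h
  exact Prod.ext h.1 h.2

lemma mdeg_shift (i : ι) (ke : Mon ι r) : mdeg D (shift i ke) = mdeg D ke + 1 := by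
  simp [mdeg, shift, Finset.sum_add_distrib, add_assoc]

/-- Monomials with exponents nonnegative away from `S`. -/
def goodSet (S : Finset ι) : Set (Mon ι r) := {ke | ∀ a, a ∉ S → 0 ≤ ke.2 a}

omit [Fintype ι] in
lemma goodSet_mono {S T : Finset ι} (h : S ⊆ T) : goodSet (r := r) S ⊆ goodSet T :=
  fun _ hke a ha => hke a fun hs => ha (h hs)

omit [Fintype ι] in
lemma shift_mem {i : ι} {S : Finset ι} {ke : Mon ι r} (h : ke ∈ goodSet S) : shift i ke ∈ goodSet S :=
  fun a ha => by
    have := h a ha
    simp only [shift, Pi.add_apply, Pi.single_apply]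
    split <;> omega

/-- The modules of the free system. -/
abbrev FMod (S : Finset ι) (r : ℕ) : Submodule B (Mon ι r →₀ B) := Finsupp.supported B B (goodSet S)

omit [Fintype ι] in
lemma supp_good {S : Finset ι} (m : FMod B S r) {ke : Mon ι r} (h : m.1 ke ≠ 0) : ke ∈ goodSet S :=
  m.2 (Finsupp.mem_support_iff.2 h)

omit [DecidableEq ι] [Fintype ι] in
lemma mem_fmod [DecidableEq ι] {S : Finset ι} {f : Mon ι r →₀ B} :
    f ∈ FMod B S r ↔ ∀ ke, f ke ≠ 0 → ke ∈ goodSet S := by
  simp [FMod, Finsupp.mem_supported, Set.subset_def]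

/-- The variables on Laurent polynomials. -/
def shiftL (i : ι) : (Mon ι r →₀ B) →ₗ[B] (Mon ι r →₀ B) := Finsupp.lmapDomain B B (shift i)

omit [Fintype ι] in
lemma shiftL_apply_shift (i : ι) (f : Mon ι r →₀ B) (ke : Mon ι r) :
    shiftL B i f (shift i ke) = f ke :=
  Finsupp.mapDomain_apply (shift_injective i) f ke

omit [Fintype ι] in
lemma shiftL_ne_zero {i : ι} {f : Mon ι r →₀ B} {ke : Mon ι r} (h : shiftL B i f ke ≠ 0) :
    ∃ ke', f ke' ≠ 0 ∧ ke = shift i ke' := by
  obtain ⟨ke', h1, h2⟩ := Finset.mem_image.1 (Finsupp.mapDomain_support (Finsupp.mem_support_iff.2 h))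
  exact ⟨ke', Finsupp.mem_support_iff.1 h1, h2.symm⟩

/-- Restriction to the monomials satisfying a predicate. -/
def filterL (P : Mon ι r → Prop) : (Mon ι r →₀ B) →ₗ[B] (Mon ι r →₀ B) where
  toFun f := f.filter P
  map_add' _ _ := Finsupp.filter_add
  map_smul' _ _ := Finsupp.filter_smul

omit [DecidableEq ι] [Fintype ι] in
lemma filterL_apply (P : Mon ι r → Prop) (f : Mon ι r →₀ B) (ke : Mon ι r) :
    filterL B P f ke = if P ke then f ke else 0 := Finsupp.filter_apply P f ke

/-- The free system. -/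
def free : Sys ι B where
  M S := FMod B S r
  res h := Submodule.inclusion (Finsupp.supported_mono (goodSet_mono h))
  res_self _ _ := rfl
  res_res _ _ _ := rfl
  x i S := (shiftL B i).restrict fun f hf => (mem_fmod B).2 fun ke hke => by
    obtain ⟨ke', h, rfl⟩ := shiftL_ne_zero B hke
    exact shift_mem ((mem_fmod B).1 hf ke' h)
  x_comm i j S := by
    refine LinearMap.ext fun m => Subtype.ext ?_
    show (shiftL B i) (shiftL B j m.1) = (shiftL B j) (shiftL B i m.1)
    simp only [shiftL, Finsupp.lmapDomain_apply, ← Finsupp.mapDomain_comp]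
    refine Finsupp.mapDomain_congr fun ke _ => ?_
    simp [shift, add_right_comm]
  x_res _ _ _ _ _ _ := rfl
  proj d S := (filterL B fun ke => mdeg D ke = d).restrict fun f hf => (mem_fmod B).2 fun ke hke => by
    rw [filterL_apply] at hke
    exact (mem_fmod B).1 hf ke (by split_ifs at hke with h <;> simp_all)
  proj_proj d S m := Subtype.ext (Finsupp.ext fun ke => by
    change filterL B _ (filterL B _ m.1) ke = filterL B _ m.1 ke
    simp only [filterL_apply]
    split_ifs <;> rfl)
  proj_orth d e S h m := Subtype.ext (Finsupp.ext fun ke => by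
    change filterL B _ (filterL B _ m.1) ke = 0
    simp only [filterL_apply]
    split_ifs with h1 h2
    · exact absurd (h1.symm.trans h2) h
    · rfl
    · rfl)
  proj_x d i S m _ := Subtype.ext (Finsupp.ext fun ke => by
    change filterL B _ (shiftL B i m.1) ke = shiftL B i (filterL B _ m.1) ke
    obtain ⟨ke', rfl⟩ : ∃ ke', ke = shift i ke' :=
      ⟨(ke.1, ke.2 - Pi.single i 1), by simp [shift]⟩
    simp [shiftL_apply_shift, filterL_apply, mdeg_shift])
  proj_res _ _ _ _ _ _ := rfl
  inj_x i S _ d m _ h := Subtype.ext (Finsupp.ext fun ke => by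
    have := congrArg (fun f => f.1 (shift i ke)) h
    exact (shiftL_apply_shift B i m.1 ke).symm.trans this)
  surj_x i S hi d m hm := by
    let g : Mon ι r →₀ B := Finsupp.comapDomain (shift i) m.1 (shift_injective i).injOn
    have hg : g ∈ FMod B S r := (mem_fmod B).2 fun ke hke => fun a ha => by
      have := supp_good B m (ke := shift i ke) hke a ha
      have hai : a ≠ i := fun e => ha (e ▸ hi)
      rw [show (shift i ke).2 a = ke.2 a + (Pi.single i 1 : ι → ℤ) a from rfl,
        Pi.single_eq_of_ne hai, add_zero] at this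
      exact this
    refine ⟨⟨g, hg⟩, Subtype.ext (Finsupp.ext fun ke => ?_), Subtype.ext (Finsupp.ext fun ke => ?_)⟩
    · change filterL B _ g ke = g ke
      rw [filterL_apply]
      split_ifs with h
      · rfl
      · change 0 = m.1 (shift i ke)
        have hm' : filterL B _ m.1 (shift i ke) = m.1 (shift i ke) := congrArg (fun f => f.1 (shift i ke)) hm
        rw [filterL_apply, if_neg (by rw [mdeg_shift]; omega)] at hm'
        exact hm'
    · change shiftL B i g ke = m.1 ke
      obtain ⟨ke', rfl⟩ : ∃ ke', ke = shift i ke' :=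
        ⟨(ke.1, ke.2 - Pi.single i 1), by simp [shift]⟩
      rw [shiftL_apply_shift]
      rfl
  loc_inj a S _ d m _ h := ⟨0, by
    rw [pow_zero]
    exact Subtype.ext (show m.1 = 0 from congrArg Subtype.val h)⟩
  loc_surj a S hS d y hy := by
    obtain ⟨k, hk⟩ : ∃ k : ℕ, ∀ ke ∈ y.1.support, 0 ≤ ke.2 a + k :=
      ⟨y.1.support.sup fun ke => (-ke.2 a).toNat, fun ke hke => by
        have := Finset.le_sup (f := fun ke : Mon ι r => (-ke.2 a).toNat) hke
        omega⟩
    let T := insert a S
    let xa : Module.End B (FMod B T r) := (shiftL B a).restrict fun f hf => (mem_fmod B).2 fun ke hke => by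
      obtain ⟨ke', h, rfl⟩ := shiftL_ne_zero B hke
      exact shift_mem ((mem_fmod B).1 hf ke' h)
    have key : ∀ n : ℕ, ∀ ke : Mon ι r, ((xa ^ n) y).1 (ke.1, ke.2 + Pi.single a (n : ℤ)) = y.1 ke := by
      intro n
      induction n with
      | zero => intro ke; simp
      | succ n ih =>
        intro ke
        rw [pow_succ', Module.End.mul_apply]
        change shiftL B a ((xa ^ n) y).1 _ = _
        rw [show (ke.1, ke.2 + Pi.single a ((n + 1 : ℕ) : ℤ)) = shift a (ke.1, ke.2 + Pi.single a (n : ℤ)) by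
          simp [shift, add_assoc, ← Pi.single_add], shiftL_apply_shift, ih]
    have surj : ∀ ke : Mon ι r, ∃ ke' : Mon ι r, ke = (ke'.1, ke'.2 + Pi.single a (k : ℤ)) :=
      fun ke => ⟨(ke.1, ke.2 - Pi.single a (k : ℤ)), by simp⟩
    refine ⟨k, ⟨((xa ^ k) y).1, (mem_fmod B).2 fun ke hke => ?_⟩, Subtype.ext (Finsupp.ext fun ke => ?_),
      Subtype.ext rfl⟩
    · obtain ⟨ke, rfl⟩ := surj ke
      rw [key] at hke
      intro b hb
      by_cases hba : b = a
      · subst hba
        simpa using hk ke (Finsupp.mem_support_iff.2 hke)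
      · simpa [Pi.single_apply, hba] using supp_good B y hke b (by simp [hb, hba])
    · change filterL B _ ((xa ^ k) y).1 ke = ((xa ^ k) y).1 ke
      obtain ⟨ke, rfl⟩ := surj ke
      rw [filterL_apply, key]
      have hy' : filterL B (fun ke => mdeg D ke = d) y.1 ke = y.1 ke := congrArg (fun f => f.1 ke) hy
      rw [filterL_apply] at hy'
      rw [← hy']
      have he : mdeg D (ke.1, ke.2 + Pi.single a (k : ℤ)) = mdeg D ke + k := by
        simp [mdeg, Finset.sum_add_distrib, add_assoc]
      by_cases h' : mdeg D ke = d <;> simp [he, h']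

/-- Monomials of bounded exponents. -/
def box (d : ℤ) : Finset (Mon ι r) :=
  Finset.univ ×ˢ Fintype.piFinset fun _ => Finset.Icc
    (-((Finset.univ.sup fun k => (d - D k).natAbs : ℕ) : ℤ))
    ((Finset.univ.sup fun k => (d - D k).natAbs : ℕ) : ℤ)

lemma mem_box {d : ℤ} {ke : Mon ι r} (hd : mdeg D ke = d)
    (h : (∀ a, ke.2 a < 0) ∨ (∀ a, 0 ≤ ke.2 a) ∨ Subsingleton ι) : ke ∈ box (ι := ι) D d := by
  refine Finset.mem_product.2 ⟨Finset.mem_univ _, Fintype.mem_piFinset.2 fun a => Finset.mem_Icc.2 ?_⟩
  have hb : (d - D ke.1).natAbs ≤ Finset.univ.sup fun k => (d - D k).natAbs :=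
    Finset.le_sup (f := fun k => (d - D k).natAbs) (Finset.mem_univ ke.1)
  have hs : ke.2 a + ∑ b ∈ Finset.univ.erase a, ke.2 b = d - D ke.1 := by
    rw [Finset.add_sum_erase _ _ (Finset.mem_univ a), ← hd, mdeg]
    ring
  rcases h with h | h | h
  · have : ∑ b ∈ Finset.univ.erase a, ke.2 b ≤ 0 := Finset.sum_nonpos fun b _ => (h b).le
    have := h a
    omega
  · have : 0 ≤ ∑ b ∈ Finset.univ.erase a, ke.2 b := Finset.sum_nonneg fun b _ => h b
    have := h a
    omega
  · rw [Finset.sum_eq_zero fun b hb' => absurd (Subsingleton.elim b a) (Finset.ne_of_mem_erase hb')] at hs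
    omega

/-- The values of a cochain in degree `d`. -/
abbrev val {d : ℤ} {p : ℕ} (c : ((free (ι := ι) B D).deg d).C p) (t : Fin (p + 1) → ι) : Mon ι r →₀ B := (c t).1.1

lemma val_good {d : ℤ} {p : ℕ} (c : ((free (ι := ι) B D).deg d).C p) {t : Fin (p + 1) → ι} {ke : Mon ι r}
    (h : val B D c t ke ≠ 0) : ke ∈ goodSet (img t) ∧ mdeg D ke = d := by
  refine ⟨supp_good B (c t).1 h, ?_⟩
  have hd : filterL B (fun ke => mdeg D ke = d) (val B D c t) ke = val B D c t ke :=
    congrArg (fun f => f.1 ke) ((free (ι := ι) B D).deg_mem (img_nonempty t) (c t))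
  rw [filterL_apply] at hd
  by_contra hne
  exact h (by rw [← hd, if_neg hne])

lemma val_d {d : ℤ} {p : ℕ} (c : ((free (ι := ι) B D).deg d).C p) (t : Fin (p + 2) → ι) (ke : Mon ι r) :
    val B D (((free (ι := ι) B D).deg d).d p c) t ke =
      ∑ j : Fin (p + 2), (-1 : ℤ) ^ (j : ℕ) • val B D c (t ∘ j.succAbove) ke := by
  let φ : ((free (ι := ι) B D).deg d).M (img t) →+ B :=
    { toFun := fun m => m.1.1 ke, map_zero' := rfl, map_add' := fun _ _ => rfl }
  show φ _ = _
  rw [RSys.d_apply, map_sum]
  refine Finset.sum_congr rfl fun j _ => ?_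
  rw [map_zsmul]
  refine congrArg (fun z => (-1 : ℤ) ^ (j : ℕ) • z) ?_
  change (((free (ι := ι) B D).deg d).res _ (c _)).1.1 ke = _
  rw [(free (ι := ι) B D).deg_res_coe (img_nonempty _)]
  rfl

/-- A monomial with a nonnegative exponent chooses one of its variables. -/
def sel (ke : Mon ι r) : Option ι :=
  if h : ∃ a, 0 ≤ ke.2 a then some h.choose else none

lemma sel_some {ke : Mon ι r} {a : ι} (h : sel ke = some a) : 0 ≤ ke.2 a := by
  unfold sel at h
  split_ifs at h with h'
  cases h
  exact h'.choose_spec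

lemma sel_none {ke : Mon ι r} (h : sel ke = none) (a : ι) : ke.2 a < 0 := by
  unfold sel at h
  split_ifs at h with h'
  push Not at h'
  exact h' a

/-- The cocycles are coboundaries up to cochains supported on a finite set of monomials. -/
theorem exists_decomposition {d : ℤ} {p : ℕ} {c : ((free (ι := ι) B D).deg d).C p}
    (hc : c ∈ ((free (ι := ι) B D).deg d).Z p) :
    ∃ c' ∈ ((free (ι := ι) B D).deg d).Z p, c - c' ∈ ((free (ι := ι) B D).deg d).Bd p ∧
      ∀ t ke, val B D c' t ke ≠ 0 → ke ∈ box (ι := ι) D d ∧ (p ≠ 0 → ∀ a, ke.2 a < 0) := by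
  cases p with
  | zero =>
    refine ⟨c, hc, by simp, fun t ke h => ⟨?_, fun h => absurd rfl h⟩⟩
    obtain ⟨hg, hd⟩ := val_good B D c h
    refine mem_box D hd (Or.inr ?_)
    by_cases hsub : Subsingleton ι
    · exact Or.inr hsub
    refine Or.inl fun a => ?_
    by_contra hneg
    obtain ⟨b, hb⟩ : ∃ b, b ≠ t 0 := by
      by_contra hall
      push Not at hall
      exact hsub ⟨fun x y => (hall x).trans (hall y).symm⟩
    have hat : a = t 0 := by
      by_contra hne
      refine hneg (hg a fun hm => ?_)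
      obtain ⟨k, rfl⟩ := mem_img.1 hm
      rw [Fin.fin_one_eq_zero k] at hne
      exact hne rfl
    have h0 : (0 : B) = val B D (((free (ι := ι) B D).deg d).d 0 c) ![t 0, b] ke := by
      rw [((free (ι := ι) B D).deg d).mem_Z.1 hc]; rfl
    rw [val_d, Fin.sum_univ_two] at h0
    have e0 : (![t 0, b] : Fin 2 → ι) ∘ (0 : Fin 2).succAbove = fun _ => b := by
      funext k; fin_cases k; rfl
    have e1 : (![t 0, b] : Fin 2 → ι) ∘ (1 : Fin 2).succAbove = t := by
      funext k; fin_cases k; rfl
    simp only [e0, e1, Fin.val_zero, Fin.val_one, pow_zero, pow_one, one_smul, neg_smul] at h0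
    rw [eq_comm, add_neg_eq_zero] at h0
    obtain ⟨hg', -⟩ := val_good B D c (t := fun _ => b) (ke := ke) (by rwa [h0])
    exact hneg (hg' a fun hm => by
      obtain ⟨k, hk⟩ := mem_img.1 hm
      exact hb (hk.trans hat))
  | succ p =>
    have hmem : ∀ s : Fin (p + 1) → ι,
        (∑ a : ι, filterL B (fun ke => sel ke = some a) (val B D c (Fin.cons a s))) ∈
          FMod B (img s) r ∧
        ∀ ke, (∑ a : ι, filterL B (fun ke => sel ke = some a) (val B D c (Fin.cons a s))) ke ≠ 0 →
          mdeg D ke = d := by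
      intro s
      have key : ∀ ke, (∑ a : ι, filterL B (fun ke => sel ke = some a)
          (val B D c (Fin.cons a s))) ke ≠ 0 → ke ∈ goodSet (img s) ∧ mdeg D ke = d := by
        intro ke hke
        rw [Finsupp.finsetSum_apply] at hke
        obtain ⟨a, -, ha⟩ := Finset.exists_ne_zero_of_sum_ne_zero hke
        rw [filterL_apply] at ha
        split_ifs at ha with h
        · obtain ⟨hg, hd⟩ := val_good B D c ha
          refine ⟨fun b hb => ?_, hd⟩
          by_cases hba : b = a
          · subst hba; exact sel_some h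
          · exact hg b (by rw [img_cons]; simp [hb, hba])
        · exact absurd rfl ha
      exact ⟨(mem_fmod B).2 fun ke h => (key ke h).1, fun ke h => (key ke h).2⟩
    let h : ((free (ι := ι) B D).deg d).C p := fun s => (free (ι := ι) B D).degMk ⟨_, (hmem s).1⟩ (by
      refine Subtype.ext (Finsupp.ext fun ke => ?_)
      change filterL B _ _ ke = _
      rw [filterL_apply]
      split_ifs with hke
      · rfl
      · by_contra hne
        exact hke ((hmem s).2 ke (Ne.symm hne)))
    refine ⟨c - ((free (ι := ι) B D).deg d).d p h,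
      sub_mem hc (RSys.mem_Z _ |>.2 (RSys.d_d _ p h)), ⟨h, by rw [sub_sub_cancel]⟩, fun t ke hne => ?_⟩
    have hcz : ∀ u : Fin (p + 3) → ι, val B D (((free (ι := ι) B D).deg d).d (p + 1) c) u ke = 0 := fun u => by
      rw [((free (ι := ι) B D).deg d).mem_Z.1 hc]; rfl
    have hval : val B D (c - ((free (ι := ι) B D).deg d).d p h) t ke =
        val B D c t ke - val B D (((free (ι := ι) B D).deg d).d p h) t ke := rfl
    obtain hnone | ⟨a, hsome⟩ := (sel ke).eq_none_or_eq_some
    · exact ⟨mem_box D (val_good B D _ hne).2 (Or.inl (sel_none hnone)), fun _ => sel_none hnone⟩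
    · refine absurd ?_ hne
      have h1 := hcz (Fin.cons a t)
      rw [val_d, Fin.sum_univ_succ] at h1
      simp only [cons_comp_succAbove_succ, cons_comp_succAbove_zero, Fin.val_zero, pow_zero,
        one_smul, Fin.val_succ, pow_succ, mul_neg, mul_one, neg_smul, Finset.sum_neg_distrib] at h1
      rw [hval, val_d, sub_eq_zero, add_neg_eq_zero.1 h1]
      refine Finset.sum_congr rfl fun j _ => congrArg (fun z => (-1 : ℤ) ^ (j : ℕ) • z) ?_
      change _ = (∑ b : ι, filterL B (fun ke => sel ke = some b) (val B D c (Fin.cons b _))) ke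
      rw [Finsupp.finsetSum_apply, Finset.sum_eq_single a
        (fun b _ hb => by rw [filterL_apply, if_neg]; simp [hsome, Ne.symm hb]) (by simp),
        filterL_apply, if_pos hsome]

theorem vanH_free : ∃ d₀ : ℤ, ∀ (d : ℤ) (p : ℕ), d₀ ≤ d → ((free (ι := ι) B D).deg d).VanH (p + 1) := by
  refine ⟨(Finset.univ.sup fun k => (D k).natAbs : ℕ), fun d p hd c hc => ?_⟩
  obtain ⟨c', -, hsub, hsupp⟩ := exists_decomposition B D hc
  suffices h0 : c' = 0 by simpa [h0] using hsub
  funext t
  refine Subtype.ext (Subtype.ext (Finsupp.ext fun ke => ?_))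
  by_contra h
  obtain ⟨-, hneg⟩ := hsupp t ke h
  have hd' := (val_good B D c' h).2
  have hb : (D ke.1).natAbs ≤ Finset.univ.sup fun k => (D k).natAbs :=
    Finset.le_sup (f := fun k => (D k).natAbs) (Finset.mem_univ ke.1)
  have hlt : ∑ a, ke.2 a < 0 :=
    Finset.sum_neg (fun a _ => hneg (by omega) a) ⟨t 0, Finset.mem_univ _⟩
  rw [mdeg] at hd'
  omega

theorem finH_free [IsNoetherianRing B] (d : ℤ) (p : ℕ) : ((free (ι := ι) B D).deg d).FinH p := by
  let R := (free (ι := ι) B D).deg d
  let Φ : R.C p →ₗ[B] (Fin (p + 1) → ι) → Mon ι r →₀ B :=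
    { toFun := fun c t => val B D c t, map_add' := fun _ _ => rfl, map_smul' := fun _ _ => rfl }
  have hΦ : Function.Injective Φ := fun a b h => funext fun t => Subtype.ext (Subtype.ext (congrFun h t))
  let Q : Submodule B ((Fin (p + 1) → ι) → Mon ι r →₀ B) :=
    Submodule.pi Set.univ fun _ => Finsupp.supported B B (box (ι := ι) D d : Set (Mon ι r))
  let ev : ((Fin (p + 1) → ι) → box (ι := ι) D d → B) →ₗ[B] ((Fin (p + 1) → ι) → Mon ι r →₀ B) :=
    LinearMap.pi fun t => (∑ ke : box (ι := ι) D d, (Finsupp.lsingle ke.1).comp (LinearMap.proj ke)).comp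
      (LinearMap.proj t)
  have hQ : Q ≤ LinearMap.range ev := fun f hf => ⟨fun t ke => f t ke.1, funext fun t => by
    have hs := (Finsupp.mem_supported B _).1 (hf t (Set.mem_univ t))
    simp only [ev, LinearMap.pi_apply, LinearMap.comp_apply, LinearMap.coe_proj, Function.eval,
      LinearMap.sum_apply, Finsupp.lsingle_apply]
    refine Finsupp.ext fun ke => ?_
    rw [Finsupp.finsetSum_apply]
    by_cases hke : ke ∈ box (ι := ι) D d
    · rw [Finset.sum_eq_single ⟨ke, hke⟩ (fun b _ hb => Finsupp.single_eq_of_ne fun e => hb (Subtype.ext e.symm))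
        (by simp), Finsupp.single_eq_same]
    · rw [Finset.sum_eq_zero fun (b : box (ι := ι) D d) _ => Finsupp.single_eq_of_ne fun (e : ke = b.1) => hke (e ▸ b.2)]
      exact (Finsupp.notMem_support_iff.1 fun h => hke (hs h)).symm⟩
  haveI : IsNoetherian B (LinearMap.range ev) := inferInstance
  have hfg : (R.Z p ⊓ Q.comap Φ).FG := by
    refine Submodule.fg_of_fg_map_injective Φ hΦ ?_
    have hle : (R.Z p ⊓ Q.comap Φ).map Φ ≤ LinearMap.range ev :=
      ((Submodule.map_mono inf_le_right).trans (Submodule.map_comap_le _ _)).trans hQ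
    have := (IsNoetherian.noetherian (((R.Z p ⊓ Q.comap Φ).map Φ).comap (LinearMap.range ev).subtype)).map
      (LinearMap.range ev).subtype
    rwa [Submodule.map_comap_subtype, inf_eq_right.2 hle] at this
  obtain ⟨G, hG⟩ := hfg
  refine ⟨G, fun g hg => (hG ▸ Submodule.subset_span hg : g ∈ R.Z p ⊓ Q.comap Φ).1, fun c hc => ?_⟩
  obtain ⟨c', hc', hsub, hsupp⟩ := exists_decomposition B D hc
  rw [hG]
  rw [show c = c' + (c - c') by abel]
  refine add_mem (Submodule.mem_sup_left ⟨hc', fun t _ => ?_⟩) (Submodule.mem_sup_right hsub)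
  exact (Finsupp.mem_supported B _).2 fun ke hke =>
    (hsupp t ke (Finsupp.mem_support_iff.1 hke)).1

end Groth.Agent.CechSys
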