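import Groth.Agent.CechSys.FinH

/-!
# Graded coefficient systems

A `Sys` is a coefficient system with commuting operators `x i` of degree one, invertible on the sets
containing `i`, and with the property that restriction is localization.
-/

set_option autoImplicit false

universe u

noncomputable section

namespace Groth.Agent.CechSys

variable (ι : Type) [DecidableEq ι] (B : Type u) [CommRing B]

/-- Graded coefficient systems. -/
structure Sys extends RSys.{u, u} ι B where
  /-- The operators of degree one. -/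
  x : ι → ∀ S, Module.End B (M S)
  x_comm : ∀ i j S, x i S * x j S = x j S * x i S
  x_res : ∀ i {S T : Finset ι}, S.Nonempty → ∀ (h : S ⊆ T) (m : M S), res h (x i S m) = x i T (res h m)
  /-- The projection to a degree. -/
  proj : ℤ → ∀ S, Module.End B (M S)
  proj_proj : ∀ d S (m : M S), proj d S (proj d S m) = proj d S m
  proj_orth : ∀ d e S, d ≠ e → ∀ (m : M S), proj d S (proj e S m) = 0
  proj_x : ∀ d i S (m : M S), S.Nonempty → proj (d + 1) S (x i S m) = x i S (proj d S m)
  proj_res : ∀ d {S T : Finset ι}, S.Nonempty → ∀ (h : S ⊆ T) (m : M S),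
    res h (proj d S m) = proj d T (res h m)
  inj_x : ∀ i S, i ∈ S → ∀ d (m : M S), proj d S m = m → x i S m = 0 → m = 0
  surj_x : ∀ i S, i ∈ S → ∀ d (m : M S), proj (d + 1) S m = m →
    ∃ m', proj d S m' = m' ∧ x i S m' = m
  loc_inj : ∀ a S, S.Nonempty → ∀ d (m : M S), proj d S m = m →
    res (Finset.subset_insert a S) m = 0 → ∃ k : ℕ, (x a S ^ k) m = 0
  loc_surj : ∀ a S, S.Nonempty → ∀ d (y : M (insert a S)), proj d _ y = y →
    ∃ (k : ℕ) (m : M S), proj (d + k) S m = m ∧ res (Finset.subset_insert a S) m = (x a _ ^ k) y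

variable {ι B}

namespace Sys

variable (N : Sys ι B)

/-- Homogeneous elements. -/
def Deg (d : ℤ) (S : Finset ι) : Submodule B (N.M S) :=
  LinearMap.eqLocus (N.proj d S) (LinearMap.id : N.M S →ₗ[B] N.M S)

lemma mem_Deg {d : ℤ} {S : Finset ι} {m : N.M S} : m ∈ N.Deg d S ↔ N.proj d S m = m := Iff.rfl

lemma proj_mem (d : ℤ) (S : Finset ι) (m : N.M S) : N.proj d S m ∈ N.Deg d S := N.proj_proj d S m

lemma x_mem {d : ℤ} {S : Finset ι} (hS : S.Nonempty) (i : ι) {m : N.M S} (hm : m ∈ N.Deg d S) :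
    N.x i S m ∈ N.Deg (d + 1) S := by
  rw [mem_Deg, N.proj_x d i S m hS, N.mem_Deg.1 hm]

lemma res_mem {d : ℤ} {S T : Finset ι} (hS : S.Nonempty) (h : S ⊆ T) {m : N.M S}
    (hm : m ∈ N.Deg d S) : N.res h m ∈ N.Deg d T := by
  rw [mem_Deg, ← N.proj_res d hS h, N.mem_Deg.1 hm]

open Classical in
/-- The system in a fixed degree. -/
abbrev deg (d : ℤ) : RSys.{u, u} ι B where
  M S := ↥(if S.Nonempty then N.Deg d S else ⊤)
  res {S T} h := if hS : S.Nonempty then
      ((N.res h).comp (Submodule.subtype _)).codRestrict _ fun m => by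
        rw [if_pos (hS.mono h)]
        exact N.res_mem hS h (by simpa [if_pos hS] using m.2)
    else if hT : T.Nonempty then 0 else
      ((N.res h).comp (Submodule.subtype _)).codRestrict _ fun m => by
        rw [if_neg hT]; trivial
  res_self {S} h m := by
    by_cases hS : S.Nonempty <;> simp [hS, Subtype.ext_iff, N.res_self]
  res_res {S T U} h h' m := by
    by_cases hS : S.Nonempty
    · simp [hS, hS.mono h, Subtype.ext_iff, N.res_res]
    · by_cases hT : T.Nonempty
      · simp [hS, hT, hT.mono h']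
      · by_cases hU : U.Nonempty <;> simp [hS, hT, hU, Subtype.ext_iff, N.res_res]

lemma deg_mem {d : ℤ} {S : Finset ι} (hS : S.Nonempty) (m : (N.deg d).M S) :
    (m.1 : N.M S) ∈ N.Deg d S := by
  have := m.2
  simpa [if_pos hS] using this

/-- An element of the system in degree `d`. -/
def degMk {d : ℤ} {S : Finset ι} (m : N.M S) (hm : m ∈ N.Deg d S) : (N.deg d).M S :=
  ⟨m, by by_cases hS : S.Nonempty <;> simp [hS, hm]⟩

lemma deg_res_coe {d : ℤ} {S T : Finset ι} (hS : S.Nonempty) (h : S ⊆ T) (m : (N.deg d).M S) :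
    (((N.deg d).res h m).1 : N.M T) = N.res h m.1 := by
  simp [deg, hS]

lemma commute_mem_adjoin (S : Finset ι) : ∀ a ∈ Set.range fun i => N.x i S,
    ∀ b ∈ Set.range fun i => N.x i S, a * b = b * a := by
  rintro _ ⟨i, rfl⟩ _ ⟨j, rfl⟩
  exact N.x_comm i j S

/-- The action of polynomials. -/
def act (S : Finset ι) : MvPolynomial ι B →ₐ[B] Module.End B (N.M S) :=
  letI := Algebra.adjoinCommRingOfComm B (N.commute_mem_adjoin S)
  (Algebra.adjoin B (Set.range fun i => N.x i S)).val.comp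
    (MvPolynomial.aeval fun i => ⟨N.x i S, Algebra.subset_adjoin ⟨i, rfl⟩⟩)

lemma act_X (S : Finset ι) (i : ι) : N.act S (MvPolynomial.X i) = N.x i S := by
  simp [act]

lemma act_res {S T : Finset ι} (hS : S.Nonempty) (h : S ⊆ T) (p : MvPolynomial ι B) (m : N.M S) :
    N.res h (N.act S p m) = N.act T p (N.res h m) := by
  induction p using MvPolynomial.induction_on generalizing m with
  | C r => simp [AlgHom.map_algebraMap, ← MvPolynomial.algebraMap_eq, Module.algebraMap_end_apply]
  | add p q hp hq => simp [hp, hq]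
  | mul_X p i hp =>
    simp only [map_mul, act_X, Module.End.mul_apply]
    rw [hp, N.x_res i hS h]

variable [Fintype ι]

/-- The operator of a monomial. -/
def pw (S : Finset ι) (e : ι → ℕ) : Module.End B (N.M S) :=
  N.act S (MvPolynomial.monomial (Finsupp.equivFunOnFinite.symm e) 1)

lemma pw_add (S : Finset ι) (e f : ι → ℕ) : N.pw S (e + f) = N.pw S e * N.pw S f := by
  rw [pw, pw, pw, ← map_mul, MvPolynomial.monomial_mul, one_mul]
  congr
  ext a; simp

lemma pw_zero (S : Finset ι) : N.pw S 0 = 1 := by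
  rw [pw, show Finsupp.equivFunOnFinite.symm (0 : ι → ℕ) = 0 by ext a; simp]
  simp

lemma pw_single (S : Finset ι) (i : ι) : N.pw S (Pi.single i 1) = N.x i S := by
  rw [pw, show Finsupp.equivFunOnFinite.symm (Pi.single i 1 : ι → ℕ) = Finsupp.single i 1 by
    ext a; simp [Pi.single_apply, Finsupp.single_apply, eq_comm]]
  exact N.act_X S i

lemma pw_nsmul (S : Finset ι) (i : ι) (k : ℕ) : N.pw S (Pi.single i k) = N.x i S ^ k := by
  induction k with
  | zero => simp [pw_zero]
  | succ k ih =>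
    rw [Pi.single_add, pw_add, ih, pw_single, pow_succ]

lemma pw_res {S T : Finset ι} (hS : S.Nonempty) (h : S ⊆ T) (e : ι → ℕ) (m : N.M S) :
    N.res h (N.pw S e m) = N.pw T e (N.res h m) :=
  N.act_res hS h _ m

lemma pw_comm (S : Finset ι) (e f : ι → ℕ) (m : N.M S) :
    N.pw S e (N.pw S f m) = N.pw S f (N.pw S e m) := by
  rw [← Module.End.mul_apply, ← Module.End.mul_apply, ← pw_add, ← pw_add, add_comm]

/-- Induction on exponents. -/
lemma exp_induction {P : (ι → ℕ) → Prop} (zero : P 0)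
    (add : ∀ e i, P e → P (e + Pi.single i 1)) (e : ι → ℕ) : P e := by
  obtain ⟨n, hn⟩ : ∃ n, ∑ a, e a = n := ⟨_, rfl⟩
  induction n generalizing e with
  | zero =>
    rw [show e = 0 from funext fun a => (Finset.sum_eq_zero_iff.1 hn) a (Finset.mem_univ a)]
    exact zero
  | succ n ih =>
    obtain ⟨i, -, hi⟩ := Finset.exists_ne_zero_of_sum_ne_zero (by rw [hn]; omega : ∑ a, e a ≠ 0)
    have he : e = (e - Pi.single i 1) + Pi.single i 1 := funext fun a => by
      by_cases ha : a = i
      · subst ha; simp; omega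
      · simp [Pi.single_eq_of_ne ha]
    rw [he] at hn ⊢
    exact add _ _ (ih _ (by simp [Finset.sum_add_distrib] at hn; exact hn))

lemma proj_pw {S : Finset ι} (hS : S.Nonempty) (e : ι → ℕ) (d : ℤ) (m : N.M S) :
    N.proj (d + ∑ a, (e a : ℤ)) S (N.pw S e m) = N.pw S e (N.proj d S m) := by
  induction e using exp_induction generalizing d m with
  | zero => simp [pw_zero]
  | add e i ih =>
    have hd : d + ∑ a, ((e + Pi.single i 1 : ι → ℕ) a : ℤ) = (d + 1) + ∑ a, (e a : ℤ) := by
      simp [Finset.sum_add_distrib, Pi.single_apply]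
      abel
    rw [hd, pw_add, pw_single, Module.End.mul_apply, Module.End.mul_apply, ← N.proj_x d i S m hS, ← ih]

lemma pw_mem {d d' : ℤ} {S : Finset ι} (hS : S.Nonempty) {e : ι → ℕ} (h : d + ∑ a, (e a : ℤ) = d')
    {m : N.M S} (hm : m ∈ N.Deg d S) : N.pw S e m ∈ N.Deg d' S := by
  rw [mem_Deg, ← h, N.proj_pw hS, N.mem_Deg.1 hm]

lemma x_pow_mem {d d' : ℤ} {S : Finset ι} (hS : S.Nonempty) (i : ι) {k : ℕ} (h : d + k = d')
    {m : N.M S} (hm : m ∈ N.Deg d S) : (N.x i S ^ k) m ∈ N.Deg d' S := by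
  rw [← pw_nsmul]
  exact N.pw_mem hS (by simp [Pi.single_apply, h]) hm

lemma pw_injective {d : ℤ} {S : Finset ι} (e : ι → ℕ) (he : ∀ a, a ∉ S → e a = 0) {m : N.M S}
    (hm : m ∈ N.Deg d S) (h : N.pw S e m = 0) : m = 0 := by
  induction e using exp_induction generalizing d m with
  | zero => simpa [pw_zero] using h
  | add e i ih =>
    have hi : i ∈ S := by
      by_contra hi
      simpa using he i hi
    rw [pw_add, pw_single, Module.End.mul_apply] at h
    refine N.inj_x i S hi d m hm (ih (fun a ha => ?_) (N.x_mem ⟨i, hi⟩ i hm) h)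
    have := he a ha
    simp at this
    exact this.1

lemma pw_surjective {d d' : ℤ} {S : Finset ι} (e : ι → ℕ) (he : ∀ a, a ∉ S → e a = 0)
    (hd : d + ∑ a, (e a : ℤ) = d') {m : N.M S} (hm : m ∈ N.Deg d' S) :
    ∃ z ∈ N.Deg d S, N.pw S e z = m := by
  induction e using exp_induction generalizing d d' m with
  | zero =>
    simp at hd
    exact ⟨m, hd ▸ hm, by simp [pw_zero]⟩
  | add e i ih =>
    have hi : i ∈ S := by
      by_contra hi
      simpa using he i hi
    have hs : (d + 1) + ∑ a, (e a : ℤ) = d' := by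
      rw [← hd]
      simp [Finset.sum_add_distrib, Pi.single_apply]
      ring
    obtain ⟨w, hw, hwm⟩ := ih (fun a ha => by have := he a ha; simp at this; exact this.1) hs hm
    obtain ⟨z, hz, hzw⟩ := N.surj_x i S hi d w hw
    exact ⟨z, hz, by rw [pw_add, pw_single, Module.End.mul_apply, hzw, hwm]⟩

lemma x_pow_injective {d : ℤ} {S : Finset ι} {i : ι} (hi : i ∈ S) (k : ℕ) {m : N.M S}
    (hm : m ∈ N.Deg d S) (h : (N.x i S ^ k) m = 0) : m = 0 :=
  N.pw_injective (Pi.single i k) (fun a ha => Pi.single_eq_of_ne (fun e => ha (by rwa [e])) _) hm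
    (by rwa [pw_nsmul])

lemma x_pow_le {S : Finset ι} (i : ι) {k k' : ℕ} (h : k ≤ k') {m : N.M S}
    (hm : (N.x i S ^ k) m = 0) : (N.x i S ^ k') m = 0 := by
  rw [← Nat.sub_add_cancel h, pow_add, Module.End.mul_apply, hm, map_zero]

/-- Finitely generated systems. -/
def FG : Prop :=
  ∀ i : ι, ∃ (r : ℕ) (D : Fin r → ℤ) (g : Fin r → N.M {i}), (∀ s, g s ∈ N.Deg (D s) {i}) ∧
    ∀ (d : ℤ), ∀ y ∈ N.Deg d {i}, ∃ (k : ℕ) (q : Fin r → MvPolynomial ι B),
      (N.x i {i} ^ k) y = ∑ s, N.act {i} (q s) (g s)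

/-- A compatible family of homogeneous elements. -/
structure GlobalElt where
  /-- The degree. -/
  D : ℤ
  /-- The components. -/
  g : ∀ j : ι, N.M {j}
  mem : ∀ j, g j ∈ N.Deg D {j}
  agree : ∀ j l, N.res (S := {j}) (T := {j, l}) (by simp) (g j) =
    N.res (S := {l}) (T := {j, l}) (by simp) (g l)

/-- Homogeneous elements extend to compatible families, up to powers of the variable. -/
lemma exists_globalElt (i : ι) {e : ℤ} {g₀ : N.M {i}} (hg₀ : g₀ ∈ N.Deg e {i}) :
    ∃ (K : ℕ) (G : N.GlobalElt), G.g i = (N.x i {i} ^ K) g₀ := by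
  have hne : ∀ j : ι, ({j} : Finset ι).Nonempty := Finset.singleton_nonempty
  have hsub : ∀ j, ({i} : Finset ι) ⊆ insert i {j} := fun j => by simp
  choose k h hh hres using fun j => N.loc_surj i {j} (hne j) e (N.res (hsub j) g₀)
    (N.res_mem (hne i) (hsub j) hg₀)
  let K₀ : ℕ := Finset.univ.sup k
  have hk : ∀ j, k j ≤ K₀ := fun j => Finset.le_sup (Finset.mem_univ j)
  let h' : ∀ j, N.M {j} := fun j => (N.x i {j} ^ (K₀ - k j)) (h j)
  have hh' : ∀ j, h' j ∈ N.Deg (e + K₀) {j} := fun j =>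
    N.x_pow_mem (hne j) i (by have := hk j; omega) (hh j)
  have hres' : ∀ j, N.res (Finset.subset_insert i {j}) (h' j) = (N.x i _ ^ K₀) (N.res (hsub j) g₀) := by
    intro j
    simp only [h', ← pw_nsmul, N.pw_res (hne j)]
    rw [hres j, ← pw_nsmul, ← Module.End.mul_apply, ← pw_add, ← Pi.single_add, Nat.sub_add_cancel (hk j)]
  -- the differences are killed by powers of `x i`
  have hdiff : ∀ jl : ι × ι, ∃ m : ℕ, (N.x i ({jl.1, jl.2} : Finset ι) ^ m)
      (N.res (S := {jl.1}) (by simp) (h' jl.1) - N.res (S := {jl.2}) (by simp) (h' jl.2)) = 0 := by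
    rintro ⟨j, l⟩
    refine N.loc_inj i {j, l} (by simp) (e + K₀) _
      (Submodule.sub_mem (N.Deg (e + K₀) _) (N.res_mem (hne j) _ (hh' j)) (N.res_mem (hne l) _ (hh' l))) ?_
    have e1 : ∀ j' (hj : ({j'} : Finset ι) ⊆ {j, l}),
        N.res (Finset.subset_insert i {j, l}) (N.res hj (h' j')) =
          (N.x i _ ^ K₀) (N.res (S := {i}) (by simp) g₀) := by
      intro j' hj
      rw [N.res_res, ← N.res_res (Finset.subset_insert i {j'}) (Finset.insert_subset_insert i hj),
        hres' j', ← pw_nsmul, ← pw_nsmul,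
        N.pw_res (Finset.insert_nonempty i {j'}), N.res_res]
    rw [map_sub, e1, e1, sub_self]
  choose m hm using hdiff
  let K₁ : ℕ := Finset.univ.sup m
  refine ⟨K₁ + K₀, ⟨e + K₀ + K₁, fun j => (N.x i {j} ^ K₁) (h' j),
    fun j => N.x_pow_mem (hne j) i rfl (hh' j), fun j l => ?_⟩, ?_⟩
  · rw [← sub_eq_zero, ← pw_nsmul, ← pw_nsmul, N.pw_res (hne j), N.pw_res (hne l), ← map_sub, pw_nsmul]
    exact N.x_pow_le i (Finset.le_sup (f := m) (Finset.mem_univ (j, l))) (hm (j, l))
  · have e2 : h' i = (N.x i {i} ^ K₀) g₀ := by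
      have hs : insert i {i} ⊆ ({i} : Finset ι) := by simp
      have := congrArg (N.res hs) (hres' i)
      rwa [N.res_res, N.res_self, ← pw_nsmul, N.pw_res (Finset.insert_nonempty i {i}), N.res_res,
        N.res_self, pw_nsmul] at this
    show (N.x i {i} ^ K₁) (h' i) = _
    rw [e2, ← Module.End.mul_apply, ← pow_add]

end Sys

end Groth.Agent.CechSys
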