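import Groth.Agent.CechSys.Free

/-!
# Finiteness and vanishing for finitely generated graded systems

A finitely generated system is the quotient of a free one by a finitely generated system; descending
induction on the degree gives that the Čech cohomology is finitely generated in every degree and
vanishes in positive degree for large twists.
-/

set_option autoImplicit false

universe u

noncomputable section

namespace Groth.Agent.CechSys

open Classical

variable {ι : Type} [DecidableEq ι] [Fintype ι] {B : Type u} [CommRing B]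

namespace Sys

variable (N : Sys ι B)

lemma coe_iterate {V : Type u} [AddCommGroup V] [Module B V] (W : Submodule B V) (f : Module.End B V)
    (g : Module.End B W) (hfg : ∀ w, (g w).1 = f w.1) (k : ℕ) (w : W) :
    ((g)^[k] w).1 = (f)^[k] w.1 := by
  induction k with
  | zero => rfl
  | succ k ih => rw [Function.iterate_succ_apply', Function.iterate_succ_apply', hfg, ih]

/-- Homogeneous components of a free system. -/
lemma free_proj_apply {r : ℕ} (D : Fin r → ℤ) (d : ℤ) (S : Finset ι) (m : (free (ι := ι) B D).M S)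
    (ke : Mon ι r) : ((free (ι := ι) B D).proj d S m).1 ke = if mdeg D ke = d then m.1 ke else 0 := by
  change filterL B (fun ke => mdeg D ke = d) m.1 ke = _
  rw [filterL_apply]
  split_ifs <;> rfl

lemma free_eq_sum_proj {r : ℕ} (D : Fin r → ℤ) (S : Finset ι) (m : (free (ι := ι) B D).M S) :
    m = ∑ e ∈ m.1.support.image (mdeg D), (free (ι := ι) B D).proj e S m := by
  refine Subtype.ext (Finsupp.ext fun ke => ?_)
  let φ : (free (ι := ι) B D).M S →+ B :=
    { toFun := fun m => m.1 ke, map_zero' := rfl, map_add' := fun _ _ => rfl }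
  show φ m = φ _
  rw [map_sum]
  show m.1 ke = ∑ e ∈ _, ((free (ι := ι) B D).proj e S m).1 ke
  simp only [free_proj_apply]
  rw [Finset.sum_ite_eq]
  split_ifs with h
  · rfl
  · by_contra hne
    exact h (Finset.mem_image_of_mem _ (Finsupp.mem_support_iff.2 hne))

section Map

variable {r : ℕ} (G : Fin r → N.GlobalElt)

/-- The degrees. -/
abbrev degs : Fin r → ℤ := fun k => (G k).D

/-- The common restriction of a family. -/
def gRes (S : Finset ι) (k : Fin r) : N.M S :=
  if hS : S.Nonempty then N.res (Finset.singleton_subset_iff.2 hS.choose_spec) ((G k).g hS.choose) else 0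

lemma gRes_eq {S : Finset ι} {j : ι} (hj : j ∈ S) (k : Fin r) :
    N.gRes G S k = N.res (Finset.singleton_subset_iff.2 hj) ((G k).g j) := by
  have hS : S.Nonempty := ⟨j, hj⟩
  rw [gRes, dif_pos hS]
  have hsub : ({hS.choose, j} : Finset ι) ⊆ S := Finset.insert_subset hS.choose_spec (by simpa using hj)
  have h := congrArg (N.res hsub) ((G k).agree hS.choose j)
  rw [N.res_res, N.res_res] at h
  exact h

lemma gRes_mem {S : Finset ι} (hS : S.Nonempty) (k : Fin r) : N.gRes G S k ∈ N.Deg (degs N G k) S := by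
  obtain ⟨j, hj⟩ := hS
  rw [N.gRes_eq G hj]
  exact N.res_mem (Finset.singleton_nonempty j) _ ((G k).mem j)

lemma gRes_res {S T : Finset ι} (hS : S.Nonempty) (h : S ⊆ T) (k : Fin r) :
    N.res h (N.gRes G S k) = N.gRes G T k := by
  obtain ⟨j, hj⟩ := hS
  rw [N.gRes_eq G hj, N.gRes_eq G (h hj), N.res_res]

/-- The negative part of an exponent. -/
def negPart (e : ι → ℤ) : ι → ℕ := fun a => (-e a).toNat

/-- The positive part of an exponent. -/
def posPart (e : ι → ℤ) : ι → ℕ := fun a => (e a).toNat

lemma exists_mon {S : Finset ι} (hS : S.Nonempty) {ke : Mon ι r} (hke : ke ∈ goodSet S) :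
    ∃ z ∈ N.Deg (mdeg (degs N G) ke) S,
      N.pw S (negPart ke.2) z = N.pw S (posPart ke.2) (N.gRes G S ke.1) := by
  refine N.pw_surjective (negPart ke.2) (fun a ha => ?_) ?_ (N.pw_mem hS rfl (N.gRes_mem G hS ke.1))
  · have := hke a ha
    simp [negPart, this]
  · rw [mdeg, add_assoc, ← Finset.sum_add_distrib]
    congr 1
    refine Finset.sum_congr rfl fun a _ => ?_
    simp only [negPart, posPart]
    omega

/-- The image of a monomial. -/
def mon (S : Finset ι) (ke : Mon ι r) : N.M S :=
  if h : S.Nonempty ∧ ke ∈ goodSet S then (N.exists_mon G h.1 h.2).choose else 0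

lemma mon_mem {S : Finset ι} (hS : S.Nonempty) {ke : Mon ι r} (hke : ke ∈ goodSet S) :
    N.mon G S ke ∈ N.Deg (mdeg (degs N G) ke) S := by
  rw [mon, dif_pos ⟨hS, hke⟩]
  exact (N.exists_mon G hS hke).choose_spec.1

lemma mon_spec {S : Finset ι} (hS : S.Nonempty) {ke : Mon ι r} (hke : ke ∈ goodSet S) :
    N.pw S (negPart ke.2) (N.mon G S ke) = N.pw S (posPart ke.2) (N.gRes G S ke.1) := by
  rw [mon, dif_pos ⟨hS, hke⟩]
  exact (N.exists_mon G hS hke).choose_spec.2

/-- Characterization of the image of a monomial. -/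
lemma mon_unique {S : Finset ι} (hS : S.Nonempty) {ke : Mon ι r} (hke : ke ∈ goodSet S)
    (M P : ι → ℕ) (hM : ∀ a, a ∉ S → M a = 0) (hMP : ∀ a, (P a : ℤ) = ke.2 a + M a) {z : N.M S}
    (hz : z ∈ N.Deg (mdeg (degs N G) ke) S) (h : N.pw S M z = N.pw S P (N.gRes G S ke.1)) :
    z = N.mon G S ke := by
  rw [← sub_eq_zero]
  refine N.pw_injective (M + negPart ke.2) (fun a ha => ?_)
    (Submodule.sub_mem _ hz (N.mon_mem G hS hke)) ?_
  · have := hke a ha
    simp [hM a ha, negPart, this]
  · have e : negPart ke.2 + P = M + posPart ke.2 := funext fun a => by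
      have := hMP a
      simp only [Pi.add_apply, negPart, posPart]
      omega
    rw [map_sub, sub_eq_zero]
    calc N.pw S (M + negPart ke.2) z = N.pw S (negPart ke.2) (N.pw S M z) := by
          rw [add_comm M, pw_add, Module.End.mul_apply]
      _ = N.pw S (negPart ke.2 + P) (N.gRes G S ke.1) := by rw [h, pw_add, Module.End.mul_apply]
      _ = N.pw S M (N.pw S (posPart ke.2) (N.gRes G S ke.1)) := by rw [e, pw_add, Module.End.mul_apply]
      _ = N.pw S (M + negPart ke.2) (N.mon G S ke) := by
          rw [← N.mon_spec G hS hke, pw_add, Module.End.mul_apply]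

lemma x_mon {S : Finset ι} (hS : S.Nonempty) (i : ι) {ke : Mon ι r} (hke : ke ∈ goodSet S) :
    N.x i S (N.mon G S ke) = N.mon G S (shift i ke) := by
  refine N.mon_unique G hS (shift_mem hke) (negPart ke.2) (posPart ke.2 + Pi.single i 1)
    (fun a ha => by have := hke a ha; simp [negPart, this]) (fun a => ?_) ?_ ?_
  · simp only [shift, negPart, posPart, Pi.add_apply, Pi.single_apply]
    split <;> omega
  · rw [mdeg_shift]
    exact N.x_mem hS i (N.mon_mem G hS hke)
  · rw [← pw_single, pw_comm, N.mon_spec G hS hke, add_comm, pw_add, Module.End.mul_apply]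
    rfl

lemma res_mon {S T : Finset ι} (hS : S.Nonempty) (h : S ⊆ T) {ke : Mon ι r} (hke : ke ∈ goodSet S) :
    N.res h (N.mon G S ke) = N.mon G T ke := by
  refine N.mon_unique G (hS.mono h) (goodSet_mono h hke) (negPart ke.2) (posPart ke.2)
    (fun a ha => by have := hke a fun hs => ha (h hs); simp [negPart, this])
    (fun a => by simp only [negPart, posPart]; omega) (N.res_mem hS h (N.mon_mem G hS hke)) ?_
  rw [← N.pw_res hS h, N.mon_spec G hS hke, N.pw_res hS h, N.gRes_res G hS h]

/-- The map from the free system. -/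
def fmap (S : Finset ι) : (free (ι := ι) B (degs N G)).M S →ₗ[B] N.M S :=
  (Finsupp.linearCombination B (N.mon G S)).comp (Submodule.subtype _)

lemma fmap_eq {S : Finset ι} (m : (free (ι := ι) B (degs N G)).M S) :
    N.fmap G S m = ∑ ke ∈ m.1.support, m.1 ke • N.mon G S ke := by
  show Finsupp.linearCombination B (N.mon G S) m.1 = _
  rw [Finsupp.linearCombination_apply, Finsupp.sum]

lemma fmap_x {S : Finset ι} (hS : S.Nonempty) (i : ι) (m : (free (ι := ι) B (degs N G)).M S) :
    N.fmap G S ((free (ι := ι) B (degs N G)).x i S m) = N.x i S (N.fmap G S m) := by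
  rw [N.fmap_eq G m, map_sum]
  change Finsupp.linearCombination B (N.mon G S) (Finsupp.mapDomain (shift i) m.1) = _
  rw [Finsupp.linearCombination_mapDomain, Finsupp.linearCombination_apply, Finsupp.sum]
  refine Finset.sum_congr rfl fun ke hke => ?_
  rw [map_smul, N.x_mon G hS i (supp_good B m (Finsupp.mem_support_iff.1 hke))]
  rfl

lemma fmap_act {S : Finset ι} (hS : S.Nonempty) (p : MvPolynomial ι B)
    (m : (free (ι := ι) B (degs N G)).M S) :
    N.fmap G S ((free (ι := ι) B (degs N G)).act S p m) = N.act S p (N.fmap G S m) := by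
  induction p using MvPolynomial.induction_on generalizing m with
  | C c => simp [← MvPolynomial.algebraMap_eq, Module.algebraMap_end_apply]
  | add p q hp hq => simp [hp, hq]
  | mul_X p i hp => simp only [map_mul, act_X, Module.End.mul_apply, hp, N.fmap_x G hS]

lemma fmap_res {S T : Finset ι} (hS : S.Nonempty) (h : S ⊆ T)
    (m : (free (ι := ι) B (degs N G)).M S) :
    N.res h (N.fmap G S m) = N.fmap G T ((free (ι := ι) B (degs N G)).res h m) := by
  rw [N.fmap_eq G m, N.fmap_eq G, map_sum]
  refine Finset.sum_congr rfl fun ke hke => ?_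
  rw [map_smul, N.res_mon G hS h (supp_good B m (Finsupp.mem_support_iff.1 hke))]
  rfl

lemma fmap_proj {S : Finset ι} (hS : S.Nonempty) (d : ℤ) (m : (free (ι := ι) B (degs N G)).M S) :
    N.fmap G S ((free (ι := ι) B (degs N G)).proj d S m) = N.proj d S (N.fmap G S m) := by
  rw [N.fmap_eq G m, map_sum]
  change Finsupp.linearCombination B (N.mon G S) (((free (ι := ι) B (degs N G)).proj d S m).1) = _
  rw [Finsupp.linearCombination_apply, Finsupp.sum,
    Finset.sum_subset (s₂ := m.1.support) (fun ke hke => Finsupp.mem_support_iff.2 fun h0 =>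
      Finsupp.mem_support_iff.1 hke (by rw [free_proj_apply]; split_ifs <;> [exact h0; rfl]))
      (fun ke _ h => by rw [Finsupp.notMem_support_iff.1 h, zero_smul])]
  refine Finset.sum_congr rfl fun ke hke => ?_
  rw [map_smul, free_proj_apply]
  have hmem := N.mem_Deg.1 (N.mon_mem G hS (supp_good B m (Finsupp.mem_support_iff.1 hke)))
  split_ifs with hd
  · rw [← hd, hmem]
  · rw [← hmem, N.proj_orth d _ S (Ne.symm hd), zero_smul, smul_zero]

/-- The kernel of the map from the free system. -/
def kerSub (S : Finset ι) : Submodule B ((free (ι := ι) B (degs N G)).M S) :=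
  ⨅ (T : Finset ι) (h : S ⊆ T) (_ : T.Nonempty),
    LinearMap.ker ((N.fmap G T).comp ((free (ι := ι) B (degs N G)).res h))

lemma mem_kerSub {S : Finset ι} (hS : S.Nonempty) {m : (free (ι := ι) B (degs N G)).M S} :
    m ∈ N.kerSub G S ↔ N.fmap G S m = 0 := by
  simp only [kerSub, Submodule.mem_iInf, LinearMap.mem_ker, LinearMap.comp_apply]
  refine ⟨fun h => ?_, fun h T hT _ => by rw [← N.fmap_res G hS hT, h, map_zero]⟩
  have h' := h S (subset_refl S) hS
  rwa [RSys.res_self] at h'

lemma res_mem_kerSub {S T : Finset ι} (h : S ⊆ T) {m : (free (ι := ι) B (degs N G)).M S}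
    (hm : m ∈ N.kerSub G S) : (free (ι := ι) B (degs N G)).res h m ∈ N.kerSub G T := by
  simp only [kerSub, Submodule.mem_iInf, LinearMap.mem_ker, LinearMap.comp_apply] at hm ⊢
  intro U hU hne
  rw [RSys.res_res]
  exact hm U _ hne

lemma map_mem_kerSub {S : Finset ι} (f : ∀ T, Module.End B ((free (ι := ι) B (degs N G)).M T))
    (g : ∀ T, Module.End B (N.M T))
    (hf : ∀ T, T.Nonempty → ∀ m, N.fmap G T (f T m) = g T (N.fmap G T m))
    (hr : ∀ T (h : S ⊆ T) m, T.Nonempty →
      (free (ι := ι) B (degs N G)).res h (f S m) = f T ((free (ι := ι) B (degs N G)).res h m))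
    {m : (free (ι := ι) B (degs N G)).M S} (hm : m ∈ N.kerSub G S) : f S m ∈ N.kerSub G S := by
  simp only [kerSub, Submodule.mem_iInf, LinearMap.mem_ker, LinearMap.comp_apply] at hm ⊢
  intro T hT hne
  rw [hr T hT m hne, hf T hne, hm T hT hne, map_zero]

lemma fmap_x_pow {S : Finset ι} (hS : S.Nonempty) (i : ι) (k : ℕ)
    (m : (free (ι := ι) B (degs N G)).M S) :
    N.fmap G S (((free (ι := ι) B (degs N G)).x i S ^ k) m) = (N.x i S ^ k) (N.fmap G S m) := by
  induction k with
  | zero => simp
  | succ k ih => rw [pow_succ', pow_succ', Module.End.mul_apply, Module.End.mul_apply, N.fmap_x G hS, ih]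

/-- The kernel system. -/
def kerSys : Sys ι B where
  M S := N.kerSub G S
  res h := ((free (ι := ι) B (degs N G)).res h).restrict fun _ => N.res_mem_kerSub G h
  res_self h m := Subtype.ext ((free (ι := ι) B (degs N G)).res_self h m.1)
  res_res h h' m := Subtype.ext ((free (ι := ι) B (degs N G)).res_res h h' m.1)
  x i S := ((free (ι := ι) B (degs N G)).x i S).restrict fun _ =>
    N.map_mem_kerSub G (fun T => (free (ι := ι) B (degs N G)).x i T) (fun T => N.x i T)
      (fun T hT m => N.fmap_x G hT i m) (fun _ _ _ _ => rfl)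
  x_comm i j S := LinearMap.ext fun m =>
    Subtype.ext (LinearMap.congr_fun ((free (ι := ι) B (degs N G)).x_comm i j S) m.1)
  x_res i S T hS h m := Subtype.ext ((free (ι := ι) B (degs N G)).x_res i hS h m.1)
  proj d S := ((free (ι := ι) B (degs N G)).proj d S).restrict fun _ =>
    N.map_mem_kerSub G (fun T => (free (ι := ι) B (degs N G)).proj d T) (fun T => N.proj d T)
      (fun T hT m => N.fmap_proj G hT d m) (fun _ _ _ _ => rfl)
  proj_proj d S m := Subtype.ext ((free (ι := ι) B (degs N G)).proj_proj d S m.1)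
  proj_orth d e S h m := Subtype.ext ((free (ι := ι) B (degs N G)).proj_orth d e S h m.1)
  proj_x d i S m hS := Subtype.ext ((free (ι := ι) B (degs N G)).proj_x d i S m.1 hS)
  proj_res d S T hS h m := Subtype.ext ((free (ι := ι) B (degs N G)).proj_res d hS h m.1)
  inj_x i S hi d m hm h := Subtype.ext ((free (ι := ι) B (degs N G)).inj_x i S hi d m.1
    (congrArg Subtype.val hm) (congrArg Subtype.val h))
  surj_x i S hi d m hm := by
    obtain ⟨m', hm', hxm⟩ := (free (ι := ι) B (degs N G)).surj_x i S hi d m.1 (congrArg Subtype.val hm)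
    have hne : S.Nonempty := ⟨i, hi⟩
    have hk : m' ∈ N.kerSub G S := by
      refine (N.mem_kerSub G hne).2 (N.inj_x i S hi d _ ?_ ?_)
      · rw [← N.fmap_proj G hne, hm']
      · rw [← N.fmap_x G hne, hxm]
        exact (N.mem_kerSub G hne).1 m.2
    exact ⟨⟨m', hk⟩, Subtype.ext hm', Subtype.ext hxm⟩
  loc_inj a S hS d m hm h := by
    obtain ⟨k, hk⟩ := (free (ι := ι) B (degs N G)).loc_inj a S hS d m.1 (congrArg Subtype.val hm)
      (congrArg Subtype.val h)
    refine ⟨k, Subtype.ext ?_⟩
    rw [Module.End.pow_apply] at hk ⊢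
    exact (coe_iterate _ _ _ (fun _ => rfl) k m).trans hk
  loc_surj a S hS d y hy := by
    obtain ⟨k, m, hm, hres⟩ := (free (ι := ι) B (degs N G)).loc_surj a S hS d y.1 (congrArg Subtype.val hy)
    have h0 : N.res (Finset.subset_insert a S) (N.fmap G S m) = 0 := by
      rw [N.fmap_res G hS, hres, N.fmap_x_pow G (Finset.insert_nonempty a S),
        (N.mem_kerSub G (Finset.insert_nonempty a S)).1 y.2, map_zero]
    obtain ⟨k', hk'⟩ := N.loc_inj a S hS (d + k) (N.fmap G S m)
      (by rw [← N.fmap_proj G hS, hm]) h0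
    have hk : ((free (ι := ι) B (degs N G)).x a S ^ k') m ∈ N.kerSub G S := by
      rw [N.mem_kerSub G hS, N.fmap_x_pow G hS, hk']
    refine ⟨k' + k, ⟨_, hk⟩, Subtype.ext ?_, Subtype.ext ?_⟩
    · exact (free (ι := ι) B (degs N G)).x_pow_mem hS a (by push_cast; ring) hm
    · change (free (ι := ι) B (degs N G)).res (Finset.subset_insert a S) (((free (ι := ι) B (degs N G)).x a S ^ k') m) = _
      rw [← pw_nsmul, (free (ι := ι) B (degs N G)).pw_res hS, hres, pw_nsmul, ← Module.End.mul_apply,
        ← pow_add]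
      simp only [Module.End.pow_apply]
      exact (coe_iterate _ _ _ (fun _ => rfl) _ _).symm

/-- The monomial of exponent zero on a generator. -/
def gen (S : Finset ι) (k : Fin r) : (free (ι := ι) B (degs N G)).M S :=
  ⟨Finsupp.single (k, 0) 1, (mem_fmod B).2 fun ke hke => by
    rw [Finsupp.single_apply_ne_zero] at hke
    obtain ⟨rfl, -⟩ := hke
    exact fun _ _ => le_rfl⟩

lemma gen_mem (S : Finset ι) (k : Fin r) :
    gen N G S k ∈ (free (ι := ι) B (degs N G)).Deg (degs N G k) S := by
  rw [mem_Deg]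
  refine Subtype.ext (Finsupp.ext fun ke => ?_)
  rw [free_proj_apply]
  split_ifs with h
  · rfl
  · by_contra hne
    obtain ⟨rfl, -⟩ := Finsupp.single_apply_ne_zero.1 (Ne.symm hne)
    exact h (by simp [mdeg])

lemma fmap_gen {S : Finset ι} (hS : S.Nonempty) (k : Fin r) :
    N.fmap G S (gen N G S k) = N.gRes G S k := by
  change Finsupp.linearCombination B (N.mon G S) (Finsupp.single (k, 0) 1) = _
  rw [Finsupp.linearCombination_single, one_smul]
  refine (N.mon_unique G hS (ke := (k, 0)) (fun _ _ => le_rfl) 0 0 (by simp) (by simp) ?_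
    (by simp [pw_zero])).symm
  have h := N.gRes_mem G hS k
  simpa [mdeg] using h

lemma free_pw_single (S : Finset ι) (e : ι → ℕ) (k : Fin r) :
    ((free (ι := ι) B (degs N G)).pw S e (gen N G S k)).1 =
      Finsupp.single (k, fun a => (e a : ℤ)) 1 := by
  induction e using exp_induction with
  | zero =>
    simp only [pw_zero, Module.End.one_apply, gen]
    congr 2
  | add e i ih =>
    rw [add_comm, pw_add, pw_single, Module.End.mul_apply]
    change Finsupp.mapDomain (shift i) ((free (ι := ι) B (degs N G)).pw S e (gen N G S k)).1 = _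
    rw [ih, Finsupp.mapDomain_single]
    congr 2
    refine Prod.ext rfl (funext fun a => ?_)
    simp [shift, Pi.single_apply, add_comm]

/-- Every element with exponents nonnegative in the variable `i` comes from polynomials. -/
lemma free_exists_act (i : ι) (f : (free (ι := ι) B (degs N G)).M {i})
    (hf : ∀ ke, f.1 ke ≠ 0 → 0 ≤ ke.2 i) :
    ∃ q : Fin r → MvPolynomial ι B,
      f = ∑ k, (free (ι := ι) B (degs N G)).act {i} (q k) (gen N G {i} k) := by
  let tn : Mon ι r → (ι →₀ ℕ) := fun ke => Finsupp.equivFunOnFinite.symm fun a => (ke.2 a).toNat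
  refine ⟨fun k => ∑ ke ∈ f.1.support, if ke.1 = k then MvPolynomial.monomial (tn ke) (f.1 ke) else 0,
    Subtype.ext ?_⟩
  let φ : (free (ι := ι) B (degs N G)).M {i} →ₗ[B] (Mon ι r →₀ B) := (FMod B ({i} : Finset ι) r).subtype
  show φ f = φ _
  simp only [map_sum, LinearMap.sum_apply]
  rw [Finset.sum_comm]
  refine Eq.trans (Finsupp.sum_single f.1).symm (Finset.sum_congr rfl fun ke hke => ?_)
  rw [Finset.sum_eq_single ke.1 (fun k _ hk => by simp [Ne.symm hk]) (by simp), if_pos rfl]
  have hmono : MvPolynomial.monomial (tn ke) (f.1 ke) =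
      f.1 ke • MvPolynomial.monomial (tn ke) (1 : B) := by
    rw [MvPolynomial.smul_monomial, smul_eq_mul, mul_one]
  rw [hmono, map_smul, LinearMap.smul_apply, map_smul]
  change _ = f.1 ke • ((free (ι := ι) B (degs N G)).pw {i} (fun a => (ke.2 a).toNat) (gen N G {i} ke.1)).1
  rw [free_pw_single, Finsupp.smul_single, smul_eq_mul, mul_one]
  congr 2
  refine Prod.ext rfl (funext fun a => (Int.toNat_of_nonneg ?_).symm)
  by_cases ha : a = i
  · rw [ha]; exact hf ke (Finsupp.mem_support_iff.1 hke)
  · exact supp_good B f (Finsupp.mem_support_iff.1 hke) a (by simpa using ha)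

lemma free_exists_pow_act (i : ι) (f : (free (ι := ι) B (degs N G)).M {i}) :
    ∃ (m : ℕ) (q : Fin r → MvPolynomial ι B), ((free (ι := ι) B (degs N G)).x i {i} ^ m) f =
      ∑ k, (free (ι := ι) B (degs N G)).act {i} (q k) (gen N G {i} k) := by
  obtain ⟨m, hm⟩ : ∃ m : ℕ, ∀ ke ∈ f.1.support, 0 ≤ ke.2 i + m :=
    ⟨f.1.support.sup fun ke => (-ke.2 i).toNat, fun ke hke => by
      have := Finset.le_sup (f := fun ke : Mon ι r => (-ke.2 i).toNat) hke
      omega⟩
  have key : ∀ (n : ℕ) (ke : Mon ι r), (((free (ι := ι) B (degs N G)).x i {i} ^ n) f).1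
      (ke.1, ke.2 + Pi.single i (n : ℤ)) = f.1 ke := by
    intro n
    induction n with
    | zero => intro ke; simp
    | succ n ih =>
      intro ke
      rw [pow_succ', Module.End.mul_apply]
      rw [show (ke.1, ke.2 + Pi.single i ((n + 1 : ℕ) : ℤ)) = shift i (ke.1, ke.2 + Pi.single i (n : ℤ)) by
        simp [shift, add_assoc, ← Pi.single_add]]
      exact (shiftL_apply_shift B i _ _).trans (ih ke)
  refine ⟨m, N.free_exists_act G i _ fun ke hne => ?_⟩
  have hk : ke = (ke.1, (ke.2 - Pi.single i (m : ℤ)) + Pi.single i (m : ℤ)) := by simp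
  have h := key m (ke.1, ke.2 - Pi.single i (m : ℤ))
  rw [← hk] at h
  have := hm _ (Finsupp.mem_support_iff.2 (h ▸ hne))
  simpa using this

theorem kerSys_FG [IsNoetherianRing B] : (kerSys N G).FG := by
  intro i
  have hne : ({i} : Finset ι).Nonempty := Finset.singleton_nonempty i
  let F := free (ι := ι) B (degs N G)
  let Φ : (Fin r → MvPolynomial ι B) →ₗ[B] F.M {i} :=
    ∑ k, ((LinearMap.applyₗ (gen N G {i} k)).comp (F.act {i}).toLinearMap).comp (LinearMap.proj k)
  have hΦ : ∀ q, Φ q = ∑ k, F.act {i} (q k) (gen N G {i} k) := fun q => by simp [Φ]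
  let Q : Submodule (MvPolynomial ι B) (Fin r → MvPolynomial ι B) :=
    { carrier := {q | N.fmap G {i} (Φ q) = 0}
      add_mem' := fun {a b} ha hb => by
        show N.fmap G {i} (Φ (a + b)) = 0
        rw [map_add, map_add, show N.fmap G {i} (Φ a) = 0 from ha, show N.fmap G {i} (Φ b) = 0 from hb, add_zero]
      zero_mem' := by simp
      smul_mem' := fun p q hq => by
        show N.fmap G {i} (Φ (p • q)) = 0
        have : Φ (p • q) = F.act {i} p (Φ q) := by
          simp [hΦ, map_sum, Module.End.mul_apply]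
        rw [this, N.fmap_act G hne, show N.fmap G {i} (Φ q) = 0 from hq, map_zero] }
  obtain ⟨T, hT⟩ : Q.FG := IsNoetherian.noetherian Q
  let e := T.equivFin.symm
  let idx := (l : Fin T.card) × (↥((Φ (e l).1).1.support.image (mdeg (degs N G))))
  let g : idx → (kerSys N G).M {i} := fun x => ⟨F.proj x.2.1 {i} (Φ (e x.1).1), by
    refine (N.mem_kerSub G hne).2 ?_
    rw [N.fmap_proj G hne, (show (e x.1).1 ∈ Q from hT ▸ Submodule.subset_span (e x.1).2), map_zero]⟩
  let σ := (Fintype.equivFin idx).symm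
  refine ⟨Fintype.card idx, fun s => (σ s).2.1, fun s => g (σ s), fun s => ?_, fun d y hy => ?_⟩
  · exact Subtype.ext (F.proj_proj _ _ _)
  obtain ⟨m, q, hq⟩ := N.free_exists_pow_act G i y.1
  have hqQ : q ∈ Q := by
    show N.fmap G {i} (Φ q) = 0
    rw [hΦ, ← hq, N.fmap_x_pow G hne, (N.mem_kerSub G hne).1 y.2, map_zero]
  rw [← hT, Submodule.mem_span_finset'] at hqQ
  obtain ⟨a, ha⟩ := hqQ
  refine ⟨m, fun s => a (e (σ s).1), ?_⟩
  apply Subtype.ext
  let ι' : (kerSys N G).M {i} →ₗ[B] F.M {i} := (N.kerSub G {i}).subtype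
  have hact : ∀ (p : MvPolynomial ι B) (z : (kerSys N G).M {i}),
      ((kerSys N G).act {i} p z).1 = F.act {i} p z.1 := by
    intro p
    induction p using MvPolynomial.induction_on with
    | C c => intro z; simp [← MvPolynomial.algebraMap_eq, Module.algebraMap_end_apply, F]; rfl
    | add p q hp hq => intro z; simp [← hp, ← hq]; rfl
    | mul_X p j hp =>
      intro z
      simp only [map_mul, act_X, Module.End.mul_apply, hp]
      rfl
  have hpow : (((kerSys N G).x i {i} ^ m) y).1 = (F.x i {i} ^ m) y.1 := by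
    rw [Module.End.pow_apply, Module.End.pow_apply]
    exact coe_iterate _ _ _ (fun _ => rfl) m y
  rw [hpow, hq, ← hΦ, ← ha]
  show Φ _ = ι' _
  rw [map_sum, map_sum]
  simp only [ι', Submodule.subtype_apply, hact]
  rw [← Equiv.sum_comp e, ← Equiv.sum_comp σ.symm, Fintype.sum_sigma]
  refine Finset.sum_congr rfl fun l _ => ?_
  simp only [Equiv.apply_symm_apply, g]
  rw [show Φ (a (e l) • (e l).1) = F.act {i} (a (e l)) (Φ (e l).1) by
    simp [hΦ, map_sum, Module.End.mul_apply]]
  conv_lhs => rw [free_eq_sum_proj (degs N G) {i} (Φ (e l).1)]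
  rw [map_sum, ← Finset.sum_coe_sort]
  exact Finset.sum_congr rfl fun x _ => (hact (a (e l)) ⟨F.proj x.1 {i} (Φ (e l).1), _⟩).symm

end Map

/-- A finitely generated system is a quotient of a free one. -/
theorem exists_ses [IsNoetherianRing B] (hN : N.FG) :
    ∃ (r : ℕ) (G : Fin r → N.GlobalElt),
      ∀ S, S.Nonempty → ∀ (d : ℤ) (y : N.M S), y ∈ N.Deg d S → ∃ f, N.fmap G S f = y := by
  choose r D g hg hgen using hN
  choose K E hE using fun i s => N.exists_globalElt i (hg i s)
  let idx := (i : ι) × Fin (r i)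
  let σ := (Fintype.equivFin idx).symm
  refine ⟨Fintype.card idx, fun t => E (σ t).1 (σ t).2, ?_⟩
  set G : Fin (Fintype.card idx) → N.GlobalElt := fun t => E (σ t).1 (σ t).2 with hG
  have single : ∀ (i : ι) (d : ℤ) (y : N.M {i}), y ∈ N.Deg d {i} → ∃ f, N.fmap G {i} f = y := by
    intro i d y hy
    have hne : ({i} : Finset ι).Nonempty := Finset.singleton_nonempty i
    let F := free (ι := ι) B (degs N G)
    obtain ⟨k, q, hq⟩ := hgen i d y hy
    let L : ℕ := Finset.univ.sup (K i)
    have hmem : ∀ (m : N.M {i}), m ∈ LinearMap.range (N.fmap G {i}) → ∀ p,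
        N.act {i} p m ∈ LinearMap.range (N.fmap G {i}) := by
      rintro _ ⟨f, rfl⟩ p
      exact ⟨F.act {i} p f, N.fmap_act G hne p f⟩
    have hgenr : ∀ s, (N.x i {i} ^ L) (g i s) ∈ LinearMap.range (N.fmap G {i}) := by
      intro s
      have h1 : (N.x i {i} ^ K i s) (g i s) ∈ LinearMap.range (N.fmap G {i}) := by
        let t := σ.symm ⟨i, s⟩
        refine ⟨gen N G {i} t, ?_⟩
        rw [N.fmap_gen G hne, N.gRes_eq G (Finset.mem_singleton_self i), N.res_self]
        have key : ∀ x : idx, x = ⟨i, s⟩ → (E x.1 x.2).g i = (N.x i {i} ^ K i s) (g i s) := by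
          rintro _ rfl
          exact hE i s
        exact key (σ t) (σ.apply_symm_apply _)
      have h2 := hmem _ h1 (MvPolynomial.X i ^ (L - K i s))
      rwa [map_pow, act_X, ← Module.End.mul_apply, ← pow_add,
        Nat.sub_add_cancel (Finset.le_sup (f := K i) (Finset.mem_univ s))] at h2
    have hy' : (N.x i {i} ^ (L + k)) y ∈ LinearMap.range (N.fmap G {i}) := by
      rw [pow_add, Module.End.mul_apply, hq, map_sum]
      refine Submodule.sum_mem _ fun s _ => ?_
      have h2 := hmem _ (hgenr s) (q s)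
      rwa [← Module.End.mul_apply, ← act_X, ← map_pow, ← map_mul, mul_comm, map_mul, map_pow, act_X,
        Module.End.mul_apply] at h2
    obtain ⟨f, hf⟩ := hy'
    have hdeg := N.x_pow_mem hne i (k := L + k) rfl hy
    obtain ⟨f', hf', hxf⟩ := F.pw_surjective (d := d) (Pi.single i (L + k)) (fun a ha =>
      Pi.single_eq_of_ne (by simpa using ha) _) rfl
      (m := F.proj (d + ∑ a, ((Pi.single i (L + k) : ι → ℕ) a : ℤ)) {i} f) (F.proj_mem _ _ _)
    refine ⟨f', ?_⟩
    rw [← sub_eq_zero]
    refine N.x_pow_injective (Finset.mem_singleton_self i) (L + k) (d := d)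
      (Submodule.sub_mem _ ?_ hy) ?_
    · rw [mem_Deg, ← N.fmap_proj G hne, F.mem_Deg.1 hf']
    · rw [map_sub, ← N.fmap_x_pow G hne, ← pw_nsmul, hxf, N.fmap_proj G hne, hf, sub_eq_zero]
      have hsum : ∑ a, ((Pi.single i (L + k) : ι → ℕ) a : ℤ) = (L + k : ℕ) := by
        simp [Pi.single_apply]
      rw [hsum]
      exact N.mem_Deg.1 hdeg
  intro S hS
  induction hS using Finset.Nonempty.cons_induction with
  | singleton a => exact single a
  | cons a S ha hS ih =>
    rw [Finset.cons_eq_insert]
    intro d y hy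
    let F := free (ι := ι) B (degs N G)
    obtain ⟨k, m, hm, hres⟩ := N.loc_surj a S hS d y hy
    obtain ⟨f, hf⟩ := ih (d + k) m hm
    obtain ⟨f', hf', hxf⟩ := F.pw_surjective (d := d) (Pi.single a k) (fun b hb =>
      Pi.single_eq_of_ne (fun h => hb (h ▸ Finset.mem_insert_self a S)) _) rfl
      (m := F.proj (d + ∑ b, ((Pi.single a k : ι → ℕ) b : ℤ)) _ (F.res (Finset.subset_insert a S) f))
      (F.proj_mem _ _ _)
    refine ⟨f', ?_⟩
    have hne := Finset.insert_nonempty a S
    rw [← sub_eq_zero]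
    refine N.x_pow_injective (Finset.mem_insert_self a S) k (d := d) (Submodule.sub_mem _ ?_ hy) ?_
    · rw [mem_Deg, ← N.fmap_proj G hne, F.mem_Deg.1 hf']
    · rw [map_sub, ← N.fmap_x_pow G hne, ← pw_nsmul, hxf, N.fmap_proj G hne, ← N.fmap_res G hS, hf, hres,
        sub_eq_zero]
      have hsum : ∑ b, ((Pi.single a k : ι → ℕ) b : ℤ) = k := by simp [Pi.single_apply]
      rw [hsum]
      exact N.mem_Deg.1 (N.x_pow_mem hne a rfl hy)

/-- The short exact sequence in a fixed degree. -/
def degSES {r : ℕ} (G : Fin r → N.GlobalElt)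
    (hG : ∀ S, S.Nonempty → ∀ (d : ℤ) (y : N.M S), y ∈ N.Deg d S → ∃ f, N.fmap G S f = y) (d : ℤ) :
    (N.deg d).SES ((kerSys N G).deg d) ((free (ι := ι) B (degs N G)).deg d) where
  i :=
    { app := fun S => LinearMap.codRestrict _ ((N.kerSub G S).subtype.comp (Submodule.subtype _)) fun m => by
        by_cases hS : S.Nonempty
        · rw [if_pos hS]
          exact congrArg Subtype.val ((kerSys N G).deg_mem hS m)
        · rw [if_neg hS]; trivial
      natural := fun {S T} hS h m => by
        refine Subtype.ext ?_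
        rw [deg_res_coe _ hS]
        show _ = (((kerSys N G).deg d).res h m).1.1
        rw [deg_res_coe _ hS]
        rfl }
  π :=
    { app := fun S => LinearMap.codRestrict _ ((N.fmap G S).comp (Submodule.subtype _)) fun m => by
        by_cases hS : S.Nonempty
        · rw [if_pos hS, mem_Deg, LinearMap.comp_apply, ← N.fmap_proj G hS]
          exact congrArg _ ((free (ι := ι) B (degs N G)).deg_mem hS m)
        · rw [if_neg hS]; trivial
      natural := fun {S T} hS h m => by
        refine Subtype.ext ?_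
        rw [deg_res_coe _ hS]
        show N.res h (N.fmap G S m.1) = N.fmap G T (((free (ι := ι) B (degs N G)).deg d).res h m).1
        rw [deg_res_coe _ hS, N.fmap_res G hS] }
  inj S _ a b h := Subtype.ext (Subtype.ext (congrArg (fun z => z.1) h))
  surj S hS y := by
    obtain ⟨f, hf⟩ := hG S hS d y.1 (N.deg_mem hS y)
    refine ⟨(free (ι := ι) B (degs N G)).degMk _
      ((free (ι := ι) B (degs N G)).proj_mem d S f), Subtype.ext ?_⟩
    show N.fmap G S ((free (ι := ι) B (degs N G)).proj d S f) = y.1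
    rw [N.fmap_proj G hS, hf, N.mem_Deg.1 (N.deg_mem hS y)]
  comp S k := by
    refine Subtype.ext ?_
    by_cases hS : S.Nonempty
    · exact (N.mem_kerSub G hS).1 k.1.2
    · obtain rfl := Finset.not_nonempty_iff_eq_empty.1 hS
      show N.fmap G ∅ k.1.1 = 0
      simp [fmap_eq, mon]
  exact S hS m h := by
    have hk : m.1 ∈ N.kerSub G S := (N.mem_kerSub G hS).2 (congrArg Subtype.val h)
    exact ⟨(kerSys N G).degMk ⟨m.1, hk⟩
      (Subtype.ext ((free (ι := ι) B (degs N G)).deg_mem hS m)), rfl⟩

/-- Finiteness and vanishing. -/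
theorem finH_and_vanH [IsNoetherianRing B] (n : ℕ) : ∀ (N : Sys ι B), N.FG → ∀ p : ℕ,
    Fintype.card ι ≤ p + n →
      (∀ d, (N.deg d).FinH p) ∧ (0 < p → ∃ d₀ : ℤ, ∀ d, d₀ ≤ d → (N.deg d).VanH p) := by
  induction n with
  | zero =>
    intro N _ p hp
    cases p with
    | zero =>
      have : IsEmpty ι := Fintype.card_eq_zero_iff.1 (Nat.le_zero.1 (by simpa using hp))
      refine ⟨fun d => ⟨∅, by simp, fun c _ => ?_⟩, fun h => absurd h (lt_irrefl 0)⟩
      have : c = 0 := funext fun t => isEmptyElim (t 0)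
      rw [this]
      exact zero_mem _
    | succ p => exact ⟨fun d => ((N.deg d).vanH_of_card_le p (by simpa using hp)).finH,
        fun _ => ⟨0, fun d _ => (N.deg d).vanH_of_card_le p (by simpa using hp)⟩⟩
  | succ n ih =>
    intro N hN p hp
    obtain ⟨r, G, hG⟩ := N.exists_ses hN
    obtain ⟨hK, hK'⟩ := ih (kerSys N G) (N.kerSys_FG G) (p + 1) (by omega)
    refine ⟨fun d => (N.degSES G hG d).finH (finH_free B _ d p) (hK d), fun hpos => ?_⟩
    obtain ⟨d₁, h₁⟩ := hK' (Nat.succ_pos p)
    obtain ⟨d₂, h₂⟩ := vanH_free (ι := ι) B (degs N G)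
    obtain ⟨q, rfl⟩ := Nat.exists_eq_succ_of_ne_zero hpos.ne'
    exact ⟨max d₁ d₂, fun d hd => (N.degSES G hG d).vanH (h₂ d q (le_of_max_le_right hd))
      (h₁ d (le_of_max_le_left hd))⟩

/-- Finite generation of the Čech cohomology of a finitely generated system. -/
theorem finH_of_FG [IsNoetherianRing B] (hN : N.FG) (d : ℤ) (p : ℕ) : (N.deg d).FinH p :=
  (finH_and_vanH (Fintype.card ι) N hN p (by omega)).1 d

/-- Serre vanishing for the Čech cohomology of a finitely generated system. -/
theorem exists_vanH_of_FG [IsNoetherianRing B] (hN : N.FG) (p : ℕ) (hp : 0 < p) :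
    ∃ d₀ : ℤ, ∀ d, d₀ ≤ d → (N.deg d).VanH p :=
  (finH_and_vanH (Fintype.card ι) N hN p (by omega)).2 hp

end Sys

end Groth.Agent.CechSys
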